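import Mathlib.GroupTheory.GroupAction.Basic
import Mathlib.Algebra.Group.Action.Pointwise.Finset
import Mathlib.Algebra.Order.BigOperators.Ring.Finset
import Mathlib.Algebra.Order.Chebyshev
import Mathlib.Combinatorics.Enumerative.DoubleCounting
import Mathlib.Tactic

/-!
Symmetric designs given by a finite family of blocks: Fisher's inequality, the constant
intersection number, fixed points against fixed blocks, and automorphisms fixing a block
pointwise.
-/

set_option autoImplicit false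

open scoped Pointwise
open Finset

namespace Cfsg.Agent.Perm.AxialDesign

/-- A family of `k`-subsets, not more of them than points, in which any two points lie in `l`
common members. -/
structure Des (Ω : Type*) [Fintype Ω] [DecidableEq Ω] where
  blocks : Finset (Finset Ω)
  k : ℕ
  l : ℕ
  card_block : ∀ B ∈ blocks, B.card = k
  pair : ∀ p q : Ω, p ≠ q → (blocks.filter fun B => p ∈ B ∧ q ∈ B).card = l
  two_le : 2 ≤ k
  k_lt : k < Fintype.card Ω
  nonempty : blocks.Nonempty
  card_le : blocks.card ≤ Fintype.card Ω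

variable {Ω : Type*} [Fintype Ω] [DecidableEq Ω]

namespace Des

variable (D : Des Ω)

/-- The blocks through a point. -/
def star (p : Ω) : Finset (Finset Ω) := D.blocks.filter fun B => p ∈ B

/-- The blocks through two points. -/
def star2 (p q : Ω) : Finset (Finset Ω) := D.blocks.filter fun B => p ∈ B ∧ q ∈ B

@[simp] theorem mem_star {p : Ω} {B : Finset Ω} : B ∈ D.star p ↔ B ∈ D.blocks ∧ p ∈ B := by
  simp [star]

@[simp] theorem mem_star2 {p q : Ω} {B : Finset Ω} :
    B ∈ D.star2 p q ↔ B ∈ D.blocks ∧ p ∈ B ∧ q ∈ B := by simp [star2]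

theorem card_star2 {p q : Ω} (h : p ≠ q) : (D.star2 p q).card = D.l := D.pair p q h

theorem star2_comm (p q : Ω) : D.star2 p q = D.star2 q p := by
  ext B; simp [and_comm]

theorem star_mul (p : Ω) : (D.star p).card * (D.k - 1) = D.l * (Fintype.card Ω - 1) := by
  have h := sum_card_bipartiteAbove_eq_sum_card_bipartiteBelow
    (s := D.star p) (t := univ.erase p) (fun (B : Finset Ω) q => q ∈ B)
  have e1 : ∀ B ∈ D.star p, ((univ.erase p).bipartiteAbove (fun (B : Finset Ω) q => q ∈ B) B).card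
      = D.k - 1 := fun B hB => by
    rw [mem_star] at hB
    rw [← D.card_block B hB.1, ← card_erase_of_mem hB.2]
    congr 1
    ext q
    simp [bipartiteAbove]
  have e2 : ∀ q ∈ univ.erase p, ((D.star p).bipartiteBelow (fun (B : Finset Ω) q => q ∈ B) q).card
      = D.l := fun q hq => by
    rw [← D.card_star2 (ne_of_mem_erase hq).symm]
    congr 1
    ext B
    simp [bipartiteBelow, and_assoc]
  rw [sum_congr rfl e1, sum_congr rfl e2, sum_const, sum_const, card_erase_of_mem (mem_univ p),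
    card_univ, smul_eq_mul, smul_eq_mul] at h
  rw [h, mul_comm]

theorem sum_star : ∑ p : Ω, (D.star p).card = D.blocks.card * D.k := by
  have h := sum_card_bipartiteAbove_eq_sum_card_bipartiteBelow
    (s := D.blocks) (t := (univ : Finset Ω)) (fun (B : Finset Ω) q => q ∈ B)
  have e1 : ∀ B ∈ D.blocks, ((univ : Finset Ω).bipartiteAbove (fun (B : Finset Ω) q => q ∈ B) B).card
      = D.k := fun B hB => by
    rw [← D.card_block B hB]
    congr 1
    ext q
    simp [bipartiteAbove]
  rw [sum_congr rfl e1, sum_const, smul_eq_mul] at h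
  rw [h]
  exact sum_congr rfl fun p _ => rfl

theorem l_pos : 0 < D.l := by
  obtain ⟨B, hB⟩ := D.nonempty
  obtain ⟨p, hp, q, hq, hpq⟩ := one_lt_card.1 (show 1 < B.card by
    rw [D.card_block B hB]; exact D.two_le)
  rw [← D.card_star2 hpq]
  exact card_pos.2 ⟨B, D.mem_star2.2 ⟨hB, hp, hq⟩⟩

theorem card_inter_sum {B : Finset Ω} (hB : B ∈ D.blocks) :
    ∑ C ∈ D.blocks.erase B, (B ∩ C).card = ∑ p ∈ B, ((D.star p).card - 1) := by
  have h := sum_card_bipartiteAbove_eq_sum_card_bipartiteBelow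
    (s := D.blocks.erase B) (t := B) (fun (C : Finset Ω) q => q ∈ C)
  have e1 : ∀ C ∈ D.blocks.erase B, (B.bipartiteAbove (fun (C : Finset Ω) q => q ∈ C) C).card
      = (B ∩ C).card := fun C _ => by
    rw [inter_comm]
    congr 1
    ext q
    simp [bipartiteAbove, and_comm]
  rw [sum_congr rfl e1] at h
  rw [h]
  refine sum_congr rfl fun p hp => ?_
  rw [← card_erase_of_mem (D.mem_star.2 ⟨hB, hp⟩)]
  congr 1
  ext C
  simp [bipartiteBelow, and_assoc]

theorem card_inter_sum_sq {B : Finset Ω} (hB : B ∈ D.blocks) :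
    ∑ C ∈ D.blocks.erase B, (B ∩ C).card * ((B ∩ C).card - 1) = D.k * (D.k - 1) * (D.l - 1) := by
  have h := sum_card_bipartiteAbove_eq_sum_card_bipartiteBelow
    (s := D.blocks.erase B) (t := B.offDiag) (fun (C : Finset Ω) q => q.1 ∈ C ∧ q.2 ∈ C)
  have e1 : ∀ C ∈ D.blocks.erase B,
      (B.offDiag.bipartiteAbove (fun (C : Finset Ω) q => q.1 ∈ C ∧ q.2 ∈ C) C).card
        = (B ∩ C).card * ((B ∩ C).card - 1) := fun C _ => by
    rw [Nat.mul_sub_left_distrib, mul_one, ← offDiag_card]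
    congr 1
    ext q
    simp [bipartiteAbove, mem_offDiag]
    tauto
  have e2 : ∀ q ∈ B.offDiag,
      ((D.blocks.erase B).bipartiteBelow (fun (C : Finset Ω) q => q.1 ∈ C ∧ q.2 ∈ C) q).card
        = D.l - 1 := fun q hq => by
    rw [mem_offDiag] at hq
    rw [← D.card_star2 hq.2.2, ← card_erase_of_mem (D.mem_star2.2 ⟨hB, hq.1, hq.2.1⟩)]
    congr 1
    ext C
    simp [bipartiteBelow, and_assoc]
  rw [sum_congr rfl e1, sum_congr rfl e2, sum_const, smul_eq_mul, offDiag_card, D.card_block B hB] at h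
  rw [h, Nat.mul_sub_left_distrib D.k, mul_one]

theorem card_star (p : Ω) : (D.star p).card = D.k := by
  classical
  set r := (D.star p).card with hr
  set n := Fintype.card Ω with hn
  have h2 := D.two_le
  have hkn := D.k_lt
  have hl := D.l_pos
  have hall : ∀ q, (D.star q).card = r := fun q => by
    have e := (D.star_mul q).trans (D.star_mul p).symm
    exact Nat.eq_of_mul_eq_mul_right (by omega) e
  have hb : D.blocks.card * D.k = n * r := by
    rw [← D.sum_star, sum_congr rfl fun q _ => hall q, sum_const, card_univ, smul_eq_mul]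
  have hrk : r ≤ D.k := by
    have h1 : n * r ≤ n * D.k := hb ▸ Nat.mul_le_mul_right _ D.card_le
    exact Nat.le_of_mul_le_mul_left h1 (by omega)
  obtain ⟨B, hB⟩ := D.nonempty
  have hr1 : 1 ≤ r := by
    obtain ⟨q, hq⟩ := card_pos.1 (show 0 < B.card by rw [D.card_block B hB]; omega)
    rw [← hall q]
    exact card_pos.2 ⟨B, D.mem_star.2 ⟨hB, hq⟩⟩
  have hmul : r * (D.k - 1) = D.l * (n - 1) := D.star_mul p
  have S1 : ∑ C ∈ D.blocks.erase B, (B ∩ C).card = D.k * (r - 1) := by
    rw [D.card_inter_sum hB, sum_congr rfl fun q _ => by rw [hall q], sum_const,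
      D.card_block B hB, smul_eq_mul]
  have S2 := D.card_inter_sum_sq hB
  have hsq : ∑ C ∈ D.blocks.erase B, ((B ∩ C).card : ℤ) ^ 2
      = (D.k : ℤ) * (D.k - 1) * (D.l - 1) + D.k * (r - 1) := by
    have e : ∀ C ∈ D.blocks.erase B, ((B ∩ C).card : ℤ) ^ 2
        = (((B ∩ C).card * ((B ∩ C).card - 1) : ℕ) : ℤ) + ((B ∩ C).card : ℕ) := fun C _ => by
      rcases Nat.eq_zero_or_pos (B ∩ C).card with h0 | h0
      · simp [h0]
      · push_cast [Nat.cast_sub (show 1 ≤ (B ∩ C).card by omega)]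
        ring
    rw [sum_congr rfl e, sum_add_distrib, ← Nat.cast_sum, ← Nat.cast_sum, S1, S2]
    push_cast [Nat.cast_sub (show 1 ≤ D.k by omega), Nat.cast_sub (show 1 ≤ D.l by omega),
      Nat.cast_sub hr1]
    ring
  have hcs := sq_sum_le_card_mul_sum_sq (s := D.blocks.erase B)
    (f := fun C => ((B ∩ C).card : ℤ))
  rw [hsq, ← Nat.cast_sum, S1, card_erase_of_mem hB] at hcs
  have hbpos : 1 ≤ D.blocks.card := card_pos.2 D.nonempty
  push_cast [Nat.cast_sub hr1, Nat.cast_sub hbpos] at hcs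
  have hmulz : (r : ℤ) * ((D.k : ℤ) - 1) = (D.l : ℤ) * ((n : ℤ) - 1) := by
    have := congrArg (Nat.cast : ℕ → ℤ) hmul
    push_cast [Nat.cast_sub (show 1 ≤ D.k by omega), Nat.cast_sub (show 1 ≤ n by omega)] at this
    exact this
  have hbz : (D.blocks.card : ℤ) * D.k = (n : ℤ) * r := by exact_mod_cast hb
  have hrl : (D.l : ℤ) < r := by
    have : D.l * (D.k - 1) < r * (D.k - 1) := by
      rw [hmul]; exact Nat.mul_lt_mul_of_pos_left (by omega) hl
    exact_mod_cast Nat.lt_of_mul_lt_mul_right this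
  by_contra hne
  have hlt : (r : ℤ) < D.k := by exact_mod_cast lt_of_le_of_ne hrk hne
  have key : (D.l : ℤ) * (((D.blocks.card : ℤ) - 1) * ((D.k : ℤ) * (D.k - 1) * (D.l - 1) + D.k * (r - 1))
      - ((D.k : ℤ) * (r - 1)) ^ 2) = ((D.k : ℤ) - 1) * (r - D.k) * (r - D.l) ^ 2 := by
    linear_combination (D.l : ℤ) * (((D.k : ℤ) - 1) * ((D.l : ℤ) - 1) + r - 1) * hbz
      - (r : ℤ) * (((D.k : ℤ) - 1) * ((D.l : ℤ) - 1) + r - 1) * hmulz
  have hneg : ((D.k : ℤ) - 1) * (r - D.k) * (r - D.l) ^ 2 < 0 := by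
    have a1 : (0 : ℤ) < (D.k : ℤ) - 1 := by
      have : (2 : ℤ) ≤ D.k := by exact_mod_cast h2
      linarith
    have a2 : (r : ℤ) - D.k < 0 := by linarith
    have a3 : (0 : ℤ) < (r - D.l) ^ 2 := by positivity
    exact mul_neg_of_neg_of_pos (mul_neg_of_pos_of_neg a1 a2) a3
  have hnonneg : (0 : ℤ) ≤ (D.l : ℤ) * (((D.blocks.card : ℤ) - 1) *
      ((D.k : ℤ) * (D.k - 1) * (D.l - 1) + D.k * (r - 1)) - ((D.k : ℤ) * (r - 1)) ^ 2) :=
    mul_nonneg (by positivity) (by linarith)
  linarith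

theorem card_blocks : D.blocks.card = Fintype.card Ω := by
  have h := D.sum_star
  rw [sum_congr rfl fun q _ => D.card_star q, sum_const, card_univ, smul_eq_mul] at h
  exact (Nat.eq_of_mul_eq_mul_right (by have := D.two_le; omega) h).symm

theorem l_mul : D.l * (Fintype.card Ω - 1) = D.k * (D.k - 1) := by
  obtain ⟨B, hB⟩ := D.nonempty
  obtain ⟨p, -⟩ := card_pos.1 (show 0 < B.card by
    rw [D.card_block B hB]; have := D.two_le; omega)
  rw [← D.star_mul p, D.card_star]

theorem l_lt : D.l < D.k := by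
  have h := D.l_mul
  have h2 := D.two_le
  have hkn := D.k_lt
  by_contra hc
  have : D.k * (D.k - 1) < D.l * (Fintype.card Ω - 1) :=
    Nat.mul_lt_mul_of_le_of_lt (not_lt.1 hc) (by omega) (by omega)
  omega

theorem inter {B C : Finset Ω} (hB : B ∈ D.blocks) (hC : C ∈ D.blocks) (hBC : B ≠ C) :
    (B ∩ C).card = D.l := by
  have h2 := D.two_le
  have hl := D.l_pos
  have S1 : ∑ C ∈ D.blocks.erase B, (B ∩ C).card = D.k * (D.k - 1) := by
    rw [D.card_inter_sum hB, sum_congr rfl fun q _ => by rw [D.card_star q], sum_const,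
      D.card_block B hB, smul_eq_mul]
  have S2 := D.card_inter_sum_sq hB
  have hcard : ((D.blocks.erase B).card : ℤ) * D.l = D.k * ((D.k : ℤ) - 1) := by
    rw [card_erase_of_mem hB, D.card_blocks]
    have := congrArg (Nat.cast : ℕ → ℤ) D.l_mul
    push_cast [Nat.cast_sub (show 1 ≤ D.k by omega)] at this ⊢
    linarith
  have S1z : ∑ C ∈ D.blocks.erase B, ((B ∩ C).card : ℤ) = D.k * ((D.k : ℤ) - 1) := by
    rw [← Nat.cast_sum, S1]
    push_cast [Nat.cast_sub (show 1 ≤ D.k by omega)]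
    ring
  have S2z : ∑ C ∈ D.blocks.erase B, ((B ∩ C).card : ℤ) * (((B ∩ C).card : ℤ) - 1)
      = D.k * ((D.k : ℤ) - 1) * ((D.l : ℤ) - 1) := by
    have e : ∀ C ∈ D.blocks.erase B, ((B ∩ C).card : ℤ) * (((B ∩ C).card : ℤ) - 1)
        = (((B ∩ C).card * ((B ∩ C).card - 1) : ℕ) : ℤ) := fun C _ => by
      rcases Nat.eq_zero_or_pos (B ∩ C).card with h0 | h0
      · simp [h0]
      · push_cast [Nat.cast_sub (show 1 ≤ (B ∩ C).card by omega)]
        ring
    rw [sum_congr rfl e, ← Nat.cast_sum, S2]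
    push_cast [Nat.cast_sub (show 1 ≤ D.k by omega), Nat.cast_sub (show 1 ≤ D.l by omega)]
    ring
  have h0 : ∑ C ∈ D.blocks.erase B, (((B ∩ C).card : ℤ) - D.l) ^ 2 = 0 := by
    have e : ∀ C ∈ D.blocks.erase B, (((B ∩ C).card : ℤ) - D.l) ^ 2
        = ((B ∩ C).card : ℤ) * (((B ∩ C).card : ℤ) - 1) + (1 - 2 * (D.l : ℤ)) * ((B ∩ C).card : ℤ)
          + (D.l : ℤ) ^ 2 := fun C _ => by ring
    rw [sum_congr rfl e, sum_add_distrib, sum_add_distrib, ← mul_sum, S1z, S2z, sum_const,
      nsmul_eq_mul]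
    linear_combination (D.l : ℤ) * hcard
  have h1 := (sum_eq_zero_iff_of_nonneg fun C _ => sq_nonneg _).1 h0 C
    (mem_erase.2 ⟨hBC.symm, hC⟩)
  have := pow_eq_zero_iff two_ne_zero |>.1 h1
  omega

section Action

variable {M : Type*} [Group M] [MulAction M Ω]

/-- An automorphism of the design fixes as many blocks as points. -/
theorem fix_eq (g : M) (hg : ∀ B ∈ D.blocks, g • B ∈ D.blocks) :
    (D.blocks.filter fun B => g • B = B).card = (univ.filter fun p : Ω => g • p = p).card := by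
  set fb := (D.blocks.filter fun B => g • B = B).card
  set fp := (univ.filter fun p : Ω => g • p = p).card
  have h := sum_card_bipartiteAbove_eq_sum_card_bipartiteBelow
    (s := D.blocks) (t := (univ : Finset Ω)) (fun (B : Finset Ω) p => p ∈ B ∧ g • p ∈ g • B ∧ g • p ∈ B)
  have e1 : ∀ B ∈ D.blocks, ((univ : Finset Ω).bipartiteAbove
      (fun (B : Finset Ω) p => p ∈ B ∧ g • p ∈ g • B ∧ g • p ∈ B) B).card
      = if g • B = B then D.k else D.l := fun B hB => by
    have hbij : ((univ : Finset Ω).bipartiteAbove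
        (fun (B : Finset Ω) p => p ∈ B ∧ g • p ∈ g • B ∧ g • p ∈ B) B).card = (g • B ∩ B).card := by
      refine card_bij (fun p _ => g • p) (fun p hp => ?_) (fun p _ q _ he => MulAction.injective g he)
        (fun q hq => ?_)
      · simp [bipartiteAbove] at hp
        simp [hp]
      · rw [mem_inter] at hq
        obtain ⟨p, hp, rfl⟩ := mem_smul_finset.1 hq.1
        exact ⟨p, by simp [bipartiteAbove, hp, hq.2], rfl⟩
    rw [hbij]
    split_ifs with h'
    · rw [h', inter_self, D.card_block B hB]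
    · exact D.inter (hg B hB) hB h'
  have e2 : ∀ p ∈ (univ : Finset Ω), (D.blocks.bipartiteBelow
      (fun (B : Finset Ω) p => p ∈ B ∧ g • p ∈ g • B ∧ g • p ∈ B) p).card
      = if g • p = p then D.k else D.l := fun p _ => by
    have hset : D.blocks.bipartiteBelow
        (fun (B : Finset Ω) p => p ∈ B ∧ g • p ∈ g • B ∧ g • p ∈ B) p = D.star2 p (g • p) := by
      ext B; simp [bipartiteBelow]
    rw [hset]
    split_ifs with h'
    · rw [h', ← D.card_star p]; congr 1; ext B; simp
    · exact D.card_star2 (Ne.symm h')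
  rw [sum_congr rfl e1, sum_congr rfl e2, sum_ite, sum_ite, sum_const, sum_const, sum_const,
    sum_const, smul_eq_mul, smul_eq_mul, smul_eq_mul, smul_eq_mul] at h
  have c1 := card_filter_add_card_filter_not (s := D.blocks) (fun B => g • B = B)
  have c2 := card_filter_add_card_filter_not (s := (univ : Finset Ω)) (fun p => g • p = p)
  rw [D.card_blocks] at c1
  rw [card_univ] at c2
  have hlk := D.l_lt
  have hz : (fb : ℤ) * D.k + ((Fintype.card Ω : ℤ) - fb) * D.l
      = (fp : ℤ) * D.k + ((Fintype.card Ω : ℤ) - fp) * D.l := by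
    have hh := congrArg (Nat.cast : ℕ → ℤ) h
    push_cast at hh
    have d1 : ((D.blocks.filter fun B => ¬ g • B = B).card : ℤ) = (Fintype.card Ω : ℤ) - fb := by
      omega
    have d2 : (((univ : Finset Ω).filter fun p => ¬ g • p = p).card : ℤ) = (Fintype.card Ω : ℤ) - fp := by
      omega
    rw [d1, d2] at hh
    exact hh
  have hzz : ((fb : ℤ) - fp) * ((D.k : ℤ) - D.l) = 0 := by linarith
  rcases mul_eq_zero.1 hzz with hh | hh <;> omega

variable {Δ : Finset Ω} (hΔ : Δ ∈ D.blocks)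
include hΔ

/-- An automorphism fixing a block pointwise fixes every block containing a point outside it
together with the image of that point. -/
theorem axial_pair_fix (g : M) (hg : ∀ B ∈ D.blocks, g • B ∈ D.blocks)
    (hax : ∀ c ∈ Δ, g • c = c) {B : Finset Ω} (hB : B ∈ D.blocks) {p : Ω} (hp : p ∈ B)
    (hgp : g • p ∈ B) (hpΔ : p ∉ Δ) : g • B = B := by
  by_contra hne
  have hBΔ : B ≠ Δ := fun h => hpΔ (h ▸ hp)
  have hsub : B ∩ Δ ⊆ g • B ∩ B := fun q hq => by
    rw [mem_inter] at hq ⊢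
    exact ⟨mem_smul_finset.2 ⟨q, hq.1, hax q hq.2⟩, hq.1⟩
  have heq := eq_of_subset_of_card_le hsub
    (by rw [D.inter (hg B hB) hB hne, D.inter hB hΔ hBΔ])
  have hmem : g • p ∈ B ∩ Δ := by
    rw [heq]; exact mem_inter.2 ⟨smul_mem_smul_finset hp, hgp⟩
  rw [mem_inter] at hmem
  have : g • (g • p) = g • p := hax _ hmem.2
  rw [MulAction.injective g this] at hmem
  exact hpΔ hmem.2

/-- An automorphism fixing a block pointwise and two further points is the identity. -/
theorem axial_two_fixed (g : M) (hg : ∀ B ∈ D.blocks, g • B ∈ D.blocks)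
    (hax : ∀ c ∈ Δ, g • c = c) {p p' : Ω} (hpp : p ≠ p') (hp : g • p = p) (hp' : g • p' = p')
    (hpΔ : p ∉ Δ) (hp'Δ : p' ∉ Δ) : ∀ r : Ω, g • r = r := by
  by_contra hr
  push_neg at hr
  obtain ⟨r, hr⟩ := hr
  have key : ∀ q : Ω, q ∉ Δ → g • q = q → ∀ t : Ω, g • t ≠ t → D.star2 q t = D.star2 t (g • t) := by
    intro q hqΔ hq t ht
    have hsub : D.star2 q t ⊆ D.star2 t (g • t) := fun B hB => by
      rw [mem_star2] at hB
      have hfix : g • B = B :=
        D.axial_pair_fix hΔ g hg hax hB.1 hB.2.1 (by rw [hq]; exact hB.2.1) hqΔ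
      rw [mem_star2]
      refine ⟨hB.1, hB.2.2, ?_⟩
      rw [← hfix]
      exact smul_mem_smul_finset hB.2.2
    refine eq_of_subset_of_card_le hsub ?_
    rw [D.card_star2 (Ne.symm ht), D.card_star2 (show q ≠ t from fun h => ht (h ▸ hq))]
  have hpr : p ≠ r := fun h => hr (h ▸ hp)
  have e1 : ∀ t, g • t ≠ t → D.star2 p t = D.star2 p p' := fun t ht => by
    have h1 : D.star2 p t = D.star2 p' t := (key p hpΔ hp t ht).trans (key p' hp'Δ hp' t ht).symm
    refine eq_of_subset_of_card_le (fun B hB => ?_) ?_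
    · have hB' : B ∈ D.star2 p' t := h1 ▸ hB
      rw [mem_star2] at hB hB' ⊢
      exact ⟨hB.1, hB.2.1, hB'.2.1⟩
    · rw [D.card_star2 hpp, D.card_star2 (show p ≠ t from fun h => ht (h ▸ hp))]
  obtain ⟨B, hB⟩ := card_pos.1 (show 0 < (D.star2 p p').card by
    rw [D.card_star2 hpp]; exact D.l_pos)
  have hBmem : B ∈ D.star2 p r := by rw [e1 r hr]; exact hB
  have hcompl : ∀ t, t ∉ Δ → t ∈ B := fun t htΔ => by
    by_cases ht : g • t = t
    · have h1 : D.star2 t r = D.star2 p r := (key t htΔ ht r hr).trans (key p hpΔ hp r hr).symm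
      rw [← h1, mem_star2] at hBmem
      exact hBmem.2.1
    · have : B ∈ D.star2 p t := by rw [e1 t ht]; exact hB
      exact (D.mem_star2.1 this).2.2
  rw [mem_star2] at hB
  have hBΔ : B ≠ Δ := fun h => hpΔ (h ▸ hB.2.1)
  have hsub : univ \ Δ ⊆ B \ Δ := fun t ht => by
    rw [mem_sdiff] at ht ⊢
    exact ⟨hcompl t ht.2, ht.2⟩
  have h1 := card_le_card hsub
  rw [card_sdiff_of_subset (subset_univ _), card_univ, D.card_block Δ hΔ] at h1
  have h2 := card_sdiff_add_card_inter B Δ
  rw [D.inter hB.1 hΔ hBΔ, D.card_block B hB.1] at h2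
  have hout : 2 ≤ (univ \ Δ).card := by
    refine one_lt_card.2 ⟨p, by simp [hpΔ], p', by simp [hp'Δ], hpp⟩
  rw [card_sdiff_of_subset (subset_univ _), card_univ, D.card_block Δ hΔ] at hout
  have hm := D.l_mul
  have hlk := D.l_lt
  have hkn := D.k_lt
  have hz := congrArg (Nat.cast : ℕ → ℤ) hm
  push_cast [Nat.cast_sub (show 1 ≤ D.k by omega),
    Nat.cast_sub (show 1 ≤ Fintype.card Ω by omega)] at hz
  have hbound : (Fintype.card Ω : ℤ) ≤ 2 * D.k - D.l := by omega
  have hout' : (D.k : ℤ) + 2 ≤ Fintype.card Ω := by omega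
  nlinarith [mul_le_mul_of_nonneg_left hbound (show (0 : ℤ) ≤ D.l by positivity)]

end Action

end Des

end Cfsg.Agent.Perm.AxialDesign
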