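import Mathlib.GroupTheory.GroupAction.Quotient
import Mathlib.GroupTheory.PGroup
import Cfsg.Agent.Lib.Perm.AxialDesign.Design

/-!
An abelian group fixing a block of a symmetric design pointwise: semiregularity outside the
block and the orbit numbers on the blocks.
-/

set_option autoImplicit false

open scoped Pointwise
open Finset

namespace Cfsg.Agent.Perm.AxialDesign

/-- A group acting two-transitively on points and blocks, with a minimal normal abelian
`p`-subgroup of a block stabiliser fixing that block pointwise. -/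
structure Cfg (G Ω : Type*) [Group G] [Fintype Ω] [DecidableEq Ω] [MulAction G Ω] where
  D : Des Ω
  inv : ∀ g : G, ∀ B ∈ D.blocks, g • B ∈ D.blocks
  faithful : ∀ g : G, (∀ r : Ω, g • r = r) → g = 1
  trans2 : ∀ a b c d : Ω, a ≠ b → c ≠ d → ∃ g : G, g • a = c ∧ g • b = d
  btrans : ∀ A B C E : Finset Ω, A ∈ D.blocks → B ∈ D.blocks → C ∈ D.blocks → E ∈ D.blocks →
    A ≠ B → C ≠ E → ∃ g : G, g • A = C ∧ g • B = E
  Δ : Finset Ω
  hΔ : Δ ∈ D.blocks
  trans : ∀ c ∈ Δ, ∀ c' ∈ Δ, ∃ g : G, g • Δ = Δ ∧ g • c = c'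
  move : ∀ r : Ω, ∃ g : G, g • Δ = Δ ∧ g • r ≠ r
  X : Subgroup G
  X_ne : X ≠ ⊥
  X_comm : ∀ x ∈ X, ∀ z ∈ X, x * z = z * x
  X_normal : ∀ g : G, g • Δ = Δ → ∀ x ∈ X, g * x * g⁻¹ ∈ X
  X_fix : ∀ x ∈ X, ∀ c ∈ Δ, x • c = c
  X_min : ∀ K : Subgroup G, K ≤ X → (∀ g : G, g • Δ = Δ → ∀ x ∈ K, g * x * g⁻¹ ∈ K) → K = ⊥ ∨ K = X
  pp : ℕ
  pp_prime : pp.Prime
  X_pgroup : IsPGroup pp X

variable {G Ω : Type*} [Group G] [Finite G] [DecidableEq G] [Fintype Ω] [DecidableEq Ω] [MulAction G Ω]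

namespace Cfg

variable (C : Cfg G Ω)

/-- The elements of `X`. -/
noncomputable def XF : Finset G := (C.X : Set G).toFinite.toFinset

@[simp] theorem mem_XF {x : G} : x ∈ C.XF ↔ x ∈ C.X := by simp [XF]

/-- The order of `X`. -/
noncomputable def e : ℕ := Nat.card C.X

theorem card_XF : C.XF.card = C.e := by
  unfold XF e
  exact ((Nat.card_coe_set_eq (C.X : Set G)).trans (Set.ncard_eq_toFinset_card _)).symm

theorem X_fixΔ {x : G} (hx : x ∈ C.X) : x • C.Δ = C.Δ := by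
  refine eq_of_subset_of_card_le (fun q hq => ?_) (by rw [card_smul_finset])
  obtain ⟨c, hc, rfl⟩ := mem_smul_finset.1 hq
  rwa [C.X_fix x hx c hc]

theorem exists_ne_one : ∃ x ∈ C.X, x ≠ 1 := by
  obtain ⟨⟨x, hx⟩, hx1⟩ := (Subgroup.ne_bot_iff_exists_ne_one.1 C.X_ne)
  exact ⟨x, hx, fun h => hx1 (Subtype.ext h)⟩

theorem pair_fix {x : G} (hx : x ∈ C.X) {B : Finset Ω} (hB : B ∈ C.D.blocks) {p : Ω} (hp : p ∈ B)
    (hxp : x • p ∈ B) (hpΔ : p ∉ C.Δ) : x • B = B :=
  C.D.axial_pair_fix C.hΔ x (C.inv x) (C.X_fix x hx) hB hp hxp hpΔ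

theorem smul_not_mem {g : G} (hg : g • C.Δ = C.Δ) {p : Ω} (hp : p ∉ C.Δ) : g • p ∉ C.Δ := by
  intro h
  rw [← hg, smul_mem_smul_finset_iff] at h
  exact hp h

theorem semireg {x : G} (hx : x ∈ C.X) {p : Ω} (hp : p ∉ C.Δ) (hfix : x • p = p) : x = 1 := by
  by_contra hx1
  have huniq : ∀ z : G, z ∈ C.X → z ≠ 1 → ∀ q q' : Ω, q ∉ C.Δ → q' ∉ C.Δ →
      z • q = q → z • q' = q' → q = q' := by
    intro z hz hz1 q q' hq hq' h h'
    by_contra hne
    exact hz1 (C.faithful z (C.D.axial_two_fixed C.hΔ z (C.inv z) (C.X_fix z hz) hne h h' hq hq'))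
  have hall : ∀ z ∈ C.X, z • p = p := fun z hz => by
    refine huniq x hx hx1 (z • p) p (C.smul_not_mem (C.X_fixΔ hz) hp) hp ?_ hfix
    rw [← mul_smul, C.X_comm x hx z hz, mul_smul, hfix]
  obtain ⟨g, hg, hgp⟩ := C.move p
  have hx' : g⁻¹ * x * g ∈ C.X := by
    have := C.X_normal g⁻¹ (by rw [inv_smul_eq_iff, hg]) x hx
    rwa [inv_inv] at this
  refine hgp (huniq x hx hx1 (g • p) p (C.smul_not_mem hg hp) hp ?_ hfix)
  have := hall _ hx'
  rwa [mul_smul, mul_smul, inv_smul_eq_iff] at this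

theorem inj_orbit {x z : G} (hx : x ∈ C.X) (hz : z ∈ C.X) {p : Ω} (hp : p ∉ C.Δ)
    (h : x • p = z • p) : x = z := by
  have : z⁻¹ * x = 1 := C.semireg (C.X.mul_mem (C.X.inv_mem hz) hx) hp
    (by rw [mul_smul, h, inv_smul_smul])
  exact (inv_mul_eq_one.1 this).symm

/-- The stabiliser in `X` of a block. -/
def U (B : Finset Ω) : Subgroup G := C.X ⊓ MulAction.stabilizer G B

@[simp] theorem mem_U {B : Finset Ω} {x : G} : x ∈ C.U B ↔ x ∈ C.X ∧ x • B = B := by
  simp [U]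

theorem U_le (B : Finset Ω) : C.U B ≤ C.X := inf_le_left

theorem card_U_eq {B B' : Finset Ω} (hB : B ∈ C.D.blocks) (hB' : B' ∈ C.D.blocks) (h : B ≠ C.Δ)
    (h' : B' ≠ C.Δ) : Nat.card (C.U B) = Nat.card (C.U B') := by
  obtain ⟨g, hgΔ, hgB⟩ := C.btrans C.Δ B C.Δ B' C.hΔ hB C.hΔ hB' h.symm h'.symm
  have hg' : g⁻¹ • C.Δ = C.Δ := by rw [inv_smul_eq_iff, hgΔ]
  have hgB' : g⁻¹ • B' = B := by rw [inv_smul_eq_iff, hgB]
  refine Nat.card_congr
    { toFun := fun x => ⟨g * x.1 * g⁻¹, C.mem_U.2 ⟨C.X_normal g hgΔ _ (C.mem_U.1 x.2).1, ?_⟩⟩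
      invFun := fun x => ⟨g⁻¹ * x.1 * g, C.mem_U.2 ⟨?_, ?_⟩⟩
      left_inv := fun x => Subtype.ext (by simp [mul_assoc])
      right_inv := fun x => Subtype.ext (by simp [mul_assoc]) }
  · rw [mul_smul, mul_smul, hgB', (C.mem_U.1 x.2).2, hgB]
  · have := C.X_normal g⁻¹ hg' _ (C.mem_U.1 x.2).1
    rwa [inv_inv] at this
  · rw [mul_smul, mul_smul, hgB, (C.mem_U.1 x.2).2, hgB']

theorem exists_block : ∃ B ∈ C.D.blocks, B ≠ C.Δ := by
  have hb := C.D.card_blocks
  have := C.D.two_le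
  have := C.D.k_lt
  exact exists_mem_ne (by omega) C.Δ

/-- A block other than `Δ`. -/
noncomputable def B₁ : Finset Ω := C.exists_block.choose

theorem B₁_mem : C.B₁ ∈ C.D.blocks := C.exists_block.choose_spec.1

theorem B₁_ne : C.B₁ ≠ C.Δ := C.exists_block.choose_spec.2

/-- The order of the stabiliser in `X` of a block other than `Δ`. -/
noncomputable def a : ℕ := Nat.card (C.U C.B₁)

theorem card_U {B : Finset Ω} (hB : B ∈ C.D.blocks) (h : B ≠ C.Δ) : Nat.card (C.U B) = C.a :=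
  C.card_U_eq hB C.B₁_mem h C.B₁_ne

theorem card_filter_U {B : Finset Ω} :
    (C.XF.filter fun x => x • B = B).card = Nat.card (C.U B) := by
  rw [← Nat.card_eq_finsetCard]
  exact Nat.card_congr (Equiv.subtypeEquivRight fun x => by simp)

theorem exists_outside : ∃ p, p ∉ C.Δ := by
  by_contra h
  push_neg at h
  have : C.Δ = univ := eq_univ_iff_forall.2 h
  have h2 := C.D.card_block _ C.hΔ
  rw [this, card_univ] at h2
  exact absurd C.D.k_lt (by omega)

theorem star_ne {p : Ω} (hp : p ∉ C.Δ) {B : Finset Ω} (hB : B ∈ C.D.star p) : B ≠ C.Δ :=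
  fun h => hp (h ▸ (C.D.mem_star.1 hB).2)

theorem count_a : C.D.k * (C.a - 1) = (C.e - 1) * C.D.l := by
  obtain ⟨p, hp⟩ := C.exists_outside
  have h := sum_card_bipartiteAbove_eq_sum_card_bipartiteBelow
    (s := C.D.star p) (t := C.XF.erase 1) (fun (B : Finset Ω) (x : G) => x • B = B)
  have e1 : ∀ B ∈ C.D.star p,
      ((C.XF.erase 1).bipartiteAbove (fun (B : Finset Ω) (x : G) => x • B = B) B).card = C.a - 1 := by
    intro B hB
    rw [← C.card_U (C.D.mem_star.1 hB).1 (C.star_ne hp hB), ← C.card_filter_U,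
      ← card_erase_of_mem (show (1 : G) ∈ C.XF.filter fun x => x • B = B by simp)]
    congr 1
    ext x
    simp [bipartiteAbove, and_assoc]
  have e2 : ∀ x ∈ C.XF.erase 1,
      ((C.D.star p).bipartiteBelow (fun (B : Finset Ω) (x : G) => x • B = B) x).card = C.D.l := by
    intro x hx
    rw [mem_erase, mem_XF] at hx
    have hne : p ≠ x • p := fun h => hx.1 (C.semireg hx.2 hp h.symm)
    rw [← C.D.card_star2 hne]
    congr 1
    ext B
    simp only [bipartiteBelow, mem_filter, Des.mem_star, Des.mem_star2]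
    constructor
    · rintro ⟨⟨hB, hpB⟩, hxB⟩
      exact ⟨hB, hpB, by rw [← hxB]; exact smul_mem_smul_finset hpB⟩
    · rintro ⟨hB, hpB, hxpB⟩
      exact ⟨⟨hB, hpB⟩, C.pair_fix hx.2 hB hpB hxpB hp⟩
  rw [sum_congr rfl e1, sum_congr rfl e2, sum_const, sum_const, C.D.card_star,
    card_erase_of_mem (by simp), C.card_XF, smul_eq_mul, smul_eq_mul] at h
  exact h

theorem two_le_e : 2 ≤ C.e := by
  have : Nontrivial C.X := (Subgroup.nontrivial_iff_ne_bot _).2 C.X_ne
  exact Finite.one_lt_card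

theorem a_two : 2 ≤ C.a := by
  by_contra h
  have h1 := C.count_a
  have h2 := C.two_le_e
  have : C.a - 1 = 0 := by omega
  rw [this, mul_zero] at h1
  have := Nat.mul_pos (show 0 < C.e - 1 by omega) C.D.l_pos
  omega

theorem a_dvd_e : C.a ∣ C.e := Subgroup.card_dvd_of_le (C.U_le _)

/-- The length of the `X`-orbits of blocks other than `Δ`. -/
noncomputable def s : ℕ := C.e / C.a

theorem e_eq : C.e = C.a * C.s := (Nat.mul_div_cancel' C.a_dvd_e).symm

theorem s_pos : 0 < C.s := by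
  have := C.two_le_e
  rcases Nat.eq_zero_or_pos C.s with h | h
  · rw [C.e_eq, h, mul_zero] at this; omega
  · exact h

theorem s_two : 2 ≤ C.s := by
  by_contra h
  have h1 : C.s = 1 := by have := C.s_pos; omega
  have h2 := C.count_a
  rw [C.e_eq, h1, mul_one, mul_comm] at h2
  have := C.a_two
  exact (C.D.l_lt).ne' (Nat.eq_of_mul_eq_mul_left (by omega) h2)

theorem int_eq : (C.a : ℤ) * ((C.D.k : ℤ) - C.D.l * C.s) = (C.D.k : ℤ) - C.D.l := by
  have h := congrArg (Nat.cast : ℕ → ℤ) C.count_a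
  have := C.a_two
  have := C.two_le_e
  push_cast [Nat.cast_sub (show 1 ≤ C.a by omega), Nat.cast_sub (show 1 ≤ C.e by omega)] at h
  have he : (C.e : ℤ) = (C.a : ℤ) * C.s := by exact_mod_cast C.e_eq
  linear_combination h + (C.D.l : ℤ) * he

/-- `k - l * s`; it is `1` exactly for projective spaces. -/
noncomputable def d : ℕ := C.D.k - C.D.l * C.s

theorem ls_lt : C.D.l * C.s < C.D.k := by
  have h := C.int_eq
  have := C.D.l_lt
  have hpos : (0 : ℤ) < (C.a : ℤ) * ((C.D.k : ℤ) - C.D.l * C.s) := by omega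
  have := pos_of_mul_pos_right hpos (by positivity)
  exact_mod_cast show ((C.D.l : ℤ) * C.s) < C.D.k by linarith

theorem k_eq : C.D.k = C.d + C.D.l * C.s := by
  unfold d; have := C.ls_lt; omega

theorem d_pos : 0 < C.d := by
  unfold d; have := C.ls_lt; omega

theorem ad_eq : C.a * C.d + C.D.l = C.D.k := by
  have h := C.int_eq
  have hk : (C.D.k : ℤ) = C.d + C.D.l * C.s := by exact_mod_cast C.k_eq
  have : ((C.a * C.d + C.D.l : ℕ) : ℤ) = C.D.k := by
    push_cast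
    linear_combination h - (C.a : ℤ) * hk
  exact_mod_cast this

theorem orbit_dvd (Y : Finset (Finset Ω)) (hY : ∀ B ∈ Y, B ∈ C.D.blocks ∧ B ≠ C.Δ)
    (hinv : ∀ x ∈ C.X, ∀ B ∈ Y, x • B ∈ Y) : C.s ∣ Y.card := by
  induction hn : Y.card using Nat.strong_induction_on generalizing Y with
  | _ n ih =>
    subst hn
    rcases Y.eq_empty_or_nonempty with h0 | ⟨B, hB⟩
    · simp [h0]
    · classical
      set O : Finset (Finset Ω) := C.XF.image fun x => x • B with hO
      have hOY : O ⊆ Y := fun A hA => by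
        obtain ⟨x, hx, rfl⟩ := mem_image.1 hA
        exact hinv x (C.mem_XF.1 hx) B hB
      have hOcard : O.card = C.s := by
        have h1 : C.XF.card = ∑ A ∈ O, (C.XF.filter fun x => x • B = A).card :=
          card_eq_sum_card_fiberwise fun x hx => mem_image_of_mem _ hx
        have h2 : ∀ A ∈ O, (C.XF.filter fun x => x • B = A).card = C.a := fun A hA => by
          obtain ⟨z, hz, rfl⟩ := mem_image.1 hA
          rw [mem_XF] at hz
          rw [← C.card_U (hY B hB).1 (hY B hB).2, ← C.card_filter_U]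
          refine card_bij (fun x _ => z⁻¹ * x) (fun x hx => ?_) (fun x _ w _ h => mul_left_cancel h)
            (fun w hw => ⟨z * w, ?_, by simp⟩)
          · simp at hx ⊢
            exact ⟨C.X.mul_mem (C.X.inv_mem hz) hx.1, by rw [mul_smul, hx.2, inv_smul_smul]⟩
          · simp at hw ⊢
            exact ⟨C.X.mul_mem hz hw.1, by rw [mul_smul, hw.2]⟩
        rw [sum_congr rfl h2, sum_const, smul_eq_mul, C.card_XF, C.e_eq, mul_comm C.a] at h1
        exact (Nat.eq_of_mul_eq_mul_right (by have := C.a_two; omega) h1).symm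
      have hrest := ih (Y \ O).card (card_lt_card (sdiff_ssubset hOY
        (card_pos.1 (by rw [hOcard]; exact C.s_pos)))) (Y \ O)
        (fun A hA => hY A (mem_sdiff.1 hA).1)
        (fun x hx A hA => by
          rw [mem_sdiff] at hA ⊢
          refine ⟨hinv x hx A hA.1, fun h => hA.2 ?_⟩
          obtain ⟨z, hz, hzA⟩ := mem_image.1 h
          refine mem_image.2 ⟨x⁻¹ * z, C.mem_XF.2 (C.X.mul_mem (C.X.inv_mem hx) (C.mem_XF.1 hz)), ?_⟩
          rw [mul_smul, hzA, inv_smul_smul]) rfl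
      rw [← card_sdiff_add_card_eq_card hOY, hOcard]
      exact Nat.dvd_add hrest dvd_rfl

theorem s_dvd_l : C.s ∣ C.D.l - 1 := by
  obtain ⟨c, hc, c', hc', hne⟩ := one_lt_card.1 (show 1 < C.Δ.card by
    rw [C.D.card_block _ C.hΔ]; exact C.D.two_le)
  have h := C.orbit_dvd ((C.D.star2 c c').erase C.Δ)
    (fun B hB => ⟨(C.D.mem_star2.1 (mem_of_mem_erase hB)).1, ne_of_mem_erase hB⟩)
    (fun x hx B hB => by
      rw [mem_erase, Des.mem_star2] at hB ⊢
      refine ⟨fun h => hB.1 ?_, C.inv x B hB.2.1, ?_, ?_⟩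
      · rw [← C.X_fixΔ hx] at h; exact smul_left_cancel x h
      · rw [← C.X_fix x hx c hc]; exact smul_mem_smul_finset hB.2.2.1
      · rw [← C.X_fix x hx c' hc']; exact smul_mem_smul_finset hB.2.2.2)
  rwa [card_erase_of_mem (C.D.mem_star2.2 ⟨C.hΔ, hc, hc'⟩), C.D.card_star2 hne] at h

theorem s_dvd_k : C.s ∣ C.D.k - 1 := by
  obtain ⟨c, hc⟩ := card_pos.1 (show 0 < C.Δ.card by
    rw [C.D.card_block _ C.hΔ]; have := C.D.two_le; omega)
  have h := C.orbit_dvd ((C.D.star c).erase C.Δ)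
    (fun B hB => ⟨(C.D.mem_star.1 (mem_of_mem_erase hB)).1, ne_of_mem_erase hB⟩)
    (fun x hx B hB => by
      rw [mem_erase, Des.mem_star] at hB ⊢
      refine ⟨fun h => hB.1 ?_, C.inv x B hB.2.1, ?_⟩
      · rw [← C.X_fixΔ hx] at h; exact smul_left_cancel x h
      · rw [← C.X_fix x hx c hc]; exact smul_mem_smul_finset hB.2.2)
  rwa [card_erase_of_mem (C.D.mem_star.2 ⟨C.hΔ, hc⟩), C.D.card_star] at h

theorem s_dvd_d : C.s ∣ C.d - 1 := by
  have h := C.s_dvd_k
  have e : C.D.k - 1 = (C.d - 1) + C.D.l * C.s := by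
    have := C.k_eq; have := C.d_pos; omega
  rw [e] at h
  exact (Nat.dvd_add_left (dvd_mul_left _ _)).1 h

theorem s_dvd_a : C.s ∣ C.a := by
  have hkl : C.s ∣ C.a * C.d := by
    have e : C.a * C.d = (C.D.k - 1) - (C.D.l - 1) := by
      have := C.ad_eq; have := C.D.l_pos; omega
    rw [e]
    exact Nat.dvd_sub C.s_dvd_k C.s_dvd_l
  have hcop : Nat.Coprime C.s C.d := by
    obtain ⟨t, ht⟩ := C.s_dvd_d
    have hd : C.d = 1 + C.s * t := by have := C.d_pos; omega
    rw [hd, Nat.coprime_add_mul_left_right]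
    exact Nat.coprime_one_right _
  exact hcop.dvd_of_dvd_mul_right hkl

theorem s_le_a : C.s ≤ C.a := Nat.le_of_dvd (by have := C.a_two; omega) C.s_dvd_a

end Cfg

end Cfsg.Agent.Perm.AxialDesign
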