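import Cfsg.Agent.Lib.Perm.AxialDesign.Shear

/-!
Every element of the abelian group has a centre, and `k = 1 + l * s`.
-/

set_option autoImplicit false

open scoped Pointwise
open Finset

namespace Cfsg.Agent.Perm.AxialDesign

variable {G Ω : Type*} [Group G] [Finite G] [DecidableEq G] [Fintype Ω] [DecidableEq Ω] [MulAction G Ω]

namespace Cfg

variable (C : Cfg G Ω)

/-- The blocks other than `Δ` through a point. -/
def S (c : Ω) : Finset (Finset Ω) := (C.D.star c).erase C.Δ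

@[simp] theorem mem_S {c : Ω} {B : Finset Ω} :
    B ∈ C.S c ↔ B ≠ C.Δ ∧ B ∈ C.D.blocks ∧ c ∈ B := by simp [S]

theorem card_S {c : Ω} (hc : c ∈ C.Δ) : (C.S c).card = C.D.k - 1 := by
  rw [S, card_erase_of_mem (C.D.mem_star.2 ⟨C.hΔ, hc⟩), C.D.card_star]

/-- The number of blocks other than `Δ` through `c` fixed by `x`. -/
def dg (x : G) (c : Ω) : ℕ := ((C.S c).filter fun B => x • B = B).card

theorem dg_le {x : G} {c : Ω} (hc : c ∈ C.Δ) : C.dg x c ≤ C.D.k - 1 :=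
  (card_filter_le _ _).trans_eq (C.card_S hc)

/-- The elements of `X` fixing every block through `c`. -/
def I (c : Ω) : Subgroup G := C.X ⊓ ⨅ B ∈ C.S c, MulAction.stabilizer G B

theorem mem_I {c : Ω} {x : G} : x ∈ C.I c ↔ x ∈ C.X ∧ ∀ B ∈ C.S c, x • B = B := by
  simp [I, Subgroup.mem_iInf]

theorem I_le (c : Ω) : C.I c ≤ C.X := inf_le_left

theorem I_le_U {c : Ω} {B : Finset Ω} (hB : B ∈ C.S c) : C.I c ≤ C.U B := fun _ hx =>
  C.mem_U.2 ⟨(C.mem_I.1 hx).1, (C.mem_I.1 hx).2 B hB⟩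

theorem dg_eq_of_mem_I {c : Ω} (hc : c ∈ C.Δ) {x : G} (hx : x ∈ C.I c) :
    C.dg x c = C.D.k - 1 := by
  rw [dg, filter_true_of_mem (C.mem_I.1 hx).2, C.card_S hc]

theorem mem_I_of_dg {c : Ω} (hc : c ∈ C.Δ) {x : G} (hx : x ∈ C.X) (h : C.dg x c = C.D.k - 1) :
    x ∈ C.I c := by
  refine C.mem_I.2 ⟨hx, fun B hB => ?_⟩
  rw [dg, ← C.card_S hc] at h
  exact (card_filter_eq_iff.1 h) B hB

theorem dg_conj {g : G} (hg : g • C.Δ = C.Δ) (x : G) (c : Ω) :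
    C.dg (g * x * g⁻¹) (g • c) = C.dg x c := by
  have hg' : g⁻¹ • C.Δ = C.Δ := by rw [inv_smul_eq_iff, hg]
  symm
  refine card_bij (fun B _ => g • B) (fun B hB => ?_) (fun B _ B' _ h => smul_left_cancel g h)
    (fun B hB => ⟨g⁻¹ • B, ?_, smul_inv_smul g B⟩)
  · simp only [mem_filter, mem_S] at hB ⊢
    refine ⟨⟨fun h => hB.1.1 (smul_left_cancel g (h.trans hg.symm)), C.inv g B hB.1.2.1,
      smul_mem_smul_finset hB.1.2.2⟩, ?_⟩
    rw [mul_smul, mul_smul, inv_smul_smul, hB.2]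
  · simp only [mem_filter, mem_S] at hB ⊢
    refine ⟨⟨fun h => hB.1.1 (smul_left_cancel g⁻¹ (h.trans hg'.symm)), C.inv g⁻¹ B hB.1.2.1, ?_⟩, ?_⟩
    · rw [← inv_smul_smul g c]; exact smul_mem_smul_finset hB.1.2.2
    · have h := hB.2
      rw [mul_smul, mul_smul] at h
      rw [eq_inv_smul_iff, h]

theorem I_conj {g : G} (hg : g • C.Δ = C.Δ) {c : Ω} (hc : c ∈ C.Δ) {x : G} (hx : x ∈ C.I c) :
    g * x * g⁻¹ ∈ C.I (g • c) :=
  C.mem_I_of_dg (by rw [← hg]; exact smul_mem_smul_finset hc) (C.X_normal g hg x (C.I_le c hx))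
    (by rw [C.dg_conj hg, C.dg_eq_of_mem_I hc hx])

/-- The elements of `X` fixing some block other than `Δ` through `c`. -/
def Un (c : Ω) : Set G := {x | ∃ B ∈ C.S c, x ∈ C.U B}

theorem dg_pos_iff {c : Ω} {x : G} (hx : x ∈ C.X) : 0 < C.dg x c ↔ x ∈ C.Un c := by
  rw [dg, card_pos]
  constructor
  · rintro ⟨B, hB⟩
    rw [mem_filter] at hB
    exact ⟨B, hB.1, C.mem_U.2 ⟨hx, hB.2⟩⟩
  · rintro ⟨B, hB, hxB⟩
    exact ⟨B, mem_filter.2 ⟨hB, (C.mem_U.1 hxB).2⟩⟩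

theorem dg_mul_right {c : Ω} {B : Finset Ω} (hB : B ∈ C.S c) {x u : G} (hx : x ∈ C.X)
    (hxU : x ∉ C.U B) (hu : u ∈ C.U B) : C.dg (x * u) c = C.dg x c := by
  rw [mem_S] at hB
  obtain ⟨y, hyΔ, hyB, hy⟩ := C.shear hB.2.1 hB.1 hx hxU hu
  rw [← hy]
  have := C.dg_conj hyΔ x c
  rwa [hyB c hB.2.2] at this

theorem U_eq_of_le {A B : Finset Ω} (hA : A ∈ C.D.blocks) (hA' : A ≠ C.Δ) (hB : B ∈ C.D.blocks)
    (hB' : B ≠ C.Δ) (h : C.U A ≤ C.U B) : C.U A = C.U B :=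
  Subgroup.eq_of_le_of_card_ge h (by rw [C.card_U hA hA', C.card_U hB hB'])

theorem case_one {c : Ω} {A B : Finset Ω} (hA : A ∈ C.S c) (hB : B ∈ C.S c) {x z : G}
    (hx : x ∈ C.U A) (hz : z ∈ C.U B) (hxB : x ∉ C.U B) (hzA : z ∉ C.U A) :
    C.dg (x * z) c = C.dg x c ∧ C.dg (x * z) c = C.dg z c := by
  refine ⟨C.dg_mul_right hB (C.U_le A hx) hxB hz, ?_⟩
  rw [C.X_comm x (C.U_le A hx) z (C.U_le B hz)]
  exact C.dg_mul_right hA (C.U_le B hz) hzA hx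

theorem exists_not_mem {c : Ω} {x : G} (hx : x ∈ C.X) (hxI : x ∉ C.I c) :
    ∃ B ∈ C.S c, x ∉ C.U B := by
  by_contra h
  push_neg at h
  exact hxI (C.mem_I.2 ⟨hx, fun B hB => (C.mem_U.1 (h B hB)).2⟩)

theorem dg_const {c : Ω} {x z : G} (hxn : x ∈ C.Un c) (hxI : x ∉ C.I c) (hzn : z ∈ C.Un c)
    (hzI : z ∉ C.I c) : C.dg x c = C.dg z c := by
  obtain ⟨A, hA, hxA⟩ := hxn
  obtain ⟨A', hA', hzA'⟩ := hzn
  have common : ∀ E ∈ C.S c, x ∈ C.U E → z ∈ C.U E → C.dg x c = C.dg z c := by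
    intro E hE hxE hzE
    have avoid : ∀ B ∈ C.S c, x ∉ C.U B → z ∉ C.U B → C.dg x c = C.dg z c := by
      intro B hB hxB hzB
      have hE' := C.mem_S.1 hE
      have hB' := C.mem_S.1 hB
      obtain ⟨w, hwB, hwE⟩ : ∃ w ∈ C.U B, w ∉ C.U E := by
        by_contra h
        push_neg at h
        exact hxB ((C.U_eq_of_le hB'.2.1 hB'.1 hE'.2.1 hE'.1 h).symm ▸ hxE)
      obtain ⟨h1, h2⟩ := C.case_one hE hB hxE hwB hxB hwE
      obtain ⟨h3, h4⟩ := C.case_one hE hB hzE hwB hzB hwE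
      rw [← h1, h2, ← h4, h3]
    obtain ⟨B, hB, hxB⟩ := C.exists_not_mem (C.U_le _ hxE) hxI
    by_cases hzB : z ∈ C.U B
    · obtain ⟨B', hB', hzB'⟩ := C.exists_not_mem (C.U_le _ hzE) hzI
      by_cases hxB' : x ∈ C.U B'
      · obtain ⟨h1, h2⟩ := C.case_one hB' hB hxB' hzB hxB hzB'
        exact h1.symm.trans h2
      · exact avoid B' hB' hxB' hzB'
    · exact avoid B hB hxB hzB
  by_cases h1 : x ∈ C.U A'
  · exact common A' hA' h1 hzA'
  by_cases h2 : z ∈ C.U A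
  · exact common A hA hxA h2
  obtain ⟨h3, h4⟩ := C.case_one hA hA' hxA hzA' h1 h2
  exact h3.symm.trans h4

theorem exists_mem_S {c : Ω} (hc : c ∈ C.Δ) : ∃ B, B ∈ C.S c := by
  have h := C.card_S hc
  have := C.D.two_le
  exact card_pos.1 (by omega)

/-- `Un c` is a subgroup. -/
def T (c : Ω) (hc : c ∈ C.Δ) : Subgroup G where
  carrier := C.Un c
  one_mem' := by
    obtain ⟨B, hB⟩ := C.exists_mem_S hc
    exact ⟨B, hB, (C.U B).one_mem⟩
  inv_mem' := by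
    rintro x ⟨B, hB, hx⟩
    exact ⟨B, hB, (C.U B).inv_mem hx⟩
  mul_mem' := by
    rintro x z ⟨A, hA, hx⟩ ⟨B, hB, hz⟩
    by_cases h1 : x ∈ C.U B
    · exact ⟨B, hB, (C.U B).mul_mem h1 hz⟩
    by_cases h2 : z ∈ C.U A
    · exact ⟨A, hA, (C.U A).mul_mem hx h2⟩
    refine (C.dg_pos_iff (C.X.mul_mem (C.U_le A hx) (C.U_le B hz))).1 ?_
    rw [(C.case_one hA hB hx hz h1 h2).1]
    exact (C.dg_pos_iff (C.U_le A hx)).2 ⟨A, hA, hx⟩

theorem mem_T {c : Ω} {hc : c ∈ C.Δ} {x : G} : x ∈ C.T c hc ↔ x ∈ C.Un c := Iff.rfl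

theorem T_le {c : Ω} (hc : c ∈ C.Δ) : C.T c hc ≤ C.X := by
  rintro x ⟨B, _, hx⟩
  exact C.U_le B hx

/-- The blocks other than `Δ` fixed by `x`. -/
def fixed (x : G) : Finset (Finset Ω) := (C.D.blocks.erase C.Δ).filter fun B => x • B = B

theorem card_fixed {x : G} (hx : x ∈ C.X) (hx1 : x ≠ 1) : (C.fixed x).card = C.D.k - 1 := by
  have h := C.D.fix_eq x (C.inv x)
  have hp : (univ.filter fun p : Ω => x • p = p) = C.Δ := by
    ext p
    simp only [mem_filter, mem_univ, true_and]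
    exact ⟨fun hp => by_contra fun hpΔ => hx1 (C.semireg hx hpΔ hp), C.X_fix x hx p⟩
  rw [hp, C.D.card_block _ C.hΔ] at h
  rw [← h, fixed, filter_erase, card_erase_of_mem (by simp [C.hΔ, C.X_fixΔ hx])]

theorem fixed_through {x : G} (hx : x ∈ C.X) (hx1 : x ≠ 1) {p : Ω} (hp : p ∉ C.Δ) :
    ((C.fixed x).filter fun B => p ∈ B).card = C.D.l := by
  rw [← C.D.card_star2 (show p ≠ x • p from fun h => hx1 (C.semireg hx hp h.symm))]
  congr 1
  ext B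
  simp only [fixed, mem_filter, mem_erase, Des.mem_star2]
  constructor
  · rintro ⟨⟨⟨-, hB⟩, hxB⟩, hpB⟩
    exact ⟨hB, hpB, by rw [← hxB]; exact smul_mem_smul_finset hpB⟩
  · rintro ⟨hB, hpB, hxpB⟩
    exact ⟨⟨⟨fun h => hp (h ▸ hpB), hB⟩, C.pair_fix hx hB hpB hxpB hp⟩, hpB⟩

theorem dg_eq_fixed (x : G) (c : Ω) :
    C.dg x c = ((C.fixed x).filter fun B => c ∈ B).card := by
  unfold dg fixed S
  congr 1
  ext B
  simp only [mem_filter, mem_erase, Des.mem_star]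
  tauto

theorem sum_dg {x : G} (hx : x ∈ C.X) (hx1 : x ≠ 1) :
    ∑ c ∈ C.Δ, (C.dg x c : ℤ) = ((C.D.k : ℤ) - 1) * C.D.l := by
  have h := sum_card_bipartiteAbove_eq_sum_card_bipartiteBelow
    (s := C.fixed x) (t := C.Δ) (fun (B : Finset Ω) c => c ∈ B)
  have e1 : ∀ B ∈ C.fixed x, (C.Δ.bipartiteAbove (fun (B : Finset Ω) c => c ∈ B) B).card = C.D.l := by
    intro B hB
    simp only [fixed, mem_filter, mem_erase] at hB
    rw [← C.D.inter C.hΔ hB.1.2 (Ne.symm hB.1.1)]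
    congr 1
  rw [sum_congr rfl e1, sum_const, C.card_fixed hx hx1, smul_eq_mul] at h
  rw [← Nat.cast_sum, sum_congr rfl fun c _ => C.dg_eq_fixed x c]
  have h' := congrArg (Nat.cast : ℕ → ℤ) h
  push_cast [Nat.cast_sub (show 1 ≤ C.D.k by have := C.D.two_le; omega)] at h'
  rw [h']
  push_cast
  exact sum_congr rfl fun c _ => rfl

theorem sum_dg_sq {x : G} (hx : x ∈ C.X) (hx1 : x ≠ 1) :
    ∑ c ∈ C.Δ, (C.dg x c : ℤ) ^ 2
      = ((C.D.k : ℤ) - 1) * ((C.D.l : ℤ) ^ 2 - 2 * C.D.l + C.D.k) := by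
  classical
  have h := sum_card_bipartiteAbove_eq_sum_card_bipartiteBelow
    (s := C.fixed x ×ˢ C.fixed x) (t := (univ : Finset Ω))
    (fun (q : Finset Ω × Finset Ω) c => c ∈ q.1 ∧ c ∈ q.2)
  have e2 : ∀ c ∈ (univ : Finset Ω), ((C.fixed x ×ˢ C.fixed x).bipartiteBelow
      (fun (q : Finset Ω × Finset Ω) c => c ∈ q.1 ∧ c ∈ q.2) c).card
      = ((C.fixed x).filter fun B => c ∈ B).card ^ 2 := fun c _ => by
    rw [sq, ← card_product]
    congr 1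
    ext q
    simp only [bipartiteBelow, mem_filter, mem_product]
    tauto
  have e1 : ∀ q ∈ C.fixed x ×ˢ C.fixed x, ((univ : Finset Ω).bipartiteAbove
      (fun (q : Finset Ω × Finset Ω) c => c ∈ q.1 ∧ c ∈ q.2) q).card
      = if q.1 = q.2 then C.D.k else C.D.l := fun q hq => by
    simp only [fixed, mem_product, mem_filter, mem_erase] at hq
    have : (univ : Finset Ω).bipartiteAbove
        (fun (q : Finset Ω × Finset Ω) c => c ∈ q.1 ∧ c ∈ q.2) q = q.1 ∩ q.2 := by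
      ext c; simp [bipartiteAbove]
    rw [this]
    split_ifs with h'
    · rw [h', inter_self, C.D.card_block _ hq.2.1.2]
    · exact C.D.inter hq.1.1.2 hq.2.1.2 h'
  rw [sum_congr rfl e1, sum_congr rfl e2, sum_ite, sum_const, sum_const, smul_eq_mul, smul_eq_mul] at h
  have hd : ((C.fixed x ×ˢ C.fixed x).filter fun q => q.1 = q.2) = (C.fixed x).diag := by
    ext q; simp only [mem_filter, mem_product, mem_diag]; constructor
    · rintro ⟨⟨h1, -⟩, h2⟩; exact ⟨h1, h2⟩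
    · rintro ⟨h1, h2⟩; exact ⟨⟨h1, h2 ▸ h1⟩, h2⟩
  have ho : ((C.fixed x ×ˢ C.fixed x).filter fun q => ¬ q.1 = q.2) = (C.fixed x).offDiag := by
    ext q; simp only [mem_filter, mem_product, mem_offDiag]; tauto
  have hcd : (C.fixed x).diag.card = C.D.k - 1 := by rw [diag_card, C.card_fixed hx hx1]
  have hco : (C.fixed x).offDiag.card = (C.D.k - 1) * (C.D.k - 1) - (C.D.k - 1) := by
    rw [offDiag_card, C.card_fixed hx hx1]
  rw [hd, ho, hcd, hco, ← sum_sdiff (subset_univ C.Δ)] at h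
  have hout : ∀ c ∈ univ \ C.Δ, ((C.fixed x).filter fun B => c ∈ B).card ^ 2 = C.D.l ^ 2 :=
    fun c hc => by rw [C.fixed_through hx hx1 (mem_sdiff.1 hc).2]
  rw [sum_congr rfl hout, sum_const, card_sdiff_of_subset (subset_univ _), card_univ,
    C.D.card_block _ C.hΔ, smul_eq_mul,
    sum_congr rfl (fun c _ => congrArg (· ^ 2) (C.dg_eq_fixed x c).symm)] at h
  have hk := C.D.two_le
  have hkn := C.D.k_lt
  have h' := congrArg (Nat.cast : ℕ → ℤ) h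
  push_cast [Nat.cast_sub (show C.D.k - 1 ≤ (C.D.k - 1) * (C.D.k - 1) from
      Nat.le_mul_of_pos_left _ (by omega)),
    Nat.cast_sub (show 1 ≤ C.D.k by omega), Nat.cast_sub hkn.le] at h'
  have hlm := congrArg (Nat.cast : ℕ → ℤ) C.D.l_mul
  push_cast [Nat.cast_sub (show 1 ≤ C.D.k by omega),
    Nat.cast_sub (show 1 ≤ Fintype.card Ω by omega)] at hlm
  linear_combination -h' - (C.D.l : ℤ) * hlm

theorem others_eq {x : G} (hx : x ∈ C.X) (hx1 : x ≠ 1) {c : Ω} (hc : c ∈ C.Δ)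
    (h : C.dg x c = C.D.k - 1) {c' : Ω} (hc' : c' ∈ C.Δ) (hne : c' ≠ c) :
    C.dg x c' = C.D.l - 1 := by
  have hk := C.D.two_le
  have hl := C.D.l_pos
  have hz : (C.dg x c : ℤ) = (C.D.k : ℤ) - 1 := by omega
  have hcard : ((C.Δ.erase c).card : ℤ) = (C.D.k : ℤ) - 1 := by
    rw [card_erase_of_mem hc, C.D.card_block _ C.hΔ]; omega
  have h1 : ∑ d ∈ C.Δ.erase c, (C.dg x d : ℤ) = ((C.D.k : ℤ) - 1) * C.D.l - ((C.D.k : ℤ) - 1) := by
    rw [sum_erase_eq_sub hc, C.sum_dg hx hx1, hz]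
  have h2 : ∑ d ∈ C.Δ.erase c, (C.dg x d : ℤ) ^ 2
      = ((C.D.k : ℤ) - 1) * ((C.D.l : ℤ) ^ 2 - 2 * C.D.l + C.D.k) - ((C.D.k : ℤ) - 1) ^ 2 := by
    rw [sum_erase_eq_sub hc, C.sum_dg_sq hx hx1, hz]
  have h0 : ∑ d ∈ C.Δ.erase c, ((C.dg x d : ℤ) - ((C.D.l : ℤ) - 1)) ^ 2 = 0 := by
    have e : ∀ d ∈ C.Δ.erase c, ((C.dg x d : ℤ) - ((C.D.l : ℤ) - 1)) ^ 2
        = (C.dg x d : ℤ) ^ 2 + (-2 * ((C.D.l : ℤ) - 1)) * (C.dg x d : ℤ) + ((C.D.l : ℤ) - 1) ^ 2 :=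
      fun d _ => by ring
    rw [sum_congr rfl e, sum_add_distrib, sum_add_distrib, ← mul_sum, h1, h2, sum_const,
      nsmul_eq_mul, hcard]
    ring
  have := (sum_eq_zero_iff_of_nonneg fun d _ => sq_nonneg _).1 h0 c' (mem_erase.2 ⟨hne, hc'⟩)
  have := pow_eq_zero_iff two_ne_zero |>.1 this
  omega

theorem sum_dg_X {c : Ω} (hc : c ∈ C.Δ) :
    ∑ x ∈ C.XF.erase 1, (C.dg x c : ℤ) = ((C.D.k : ℤ) - 1) * ((C.a : ℤ) - 1) := by
  have h := sum_card_bipartiteAbove_eq_sum_card_bipartiteBelow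
    (s := C.S c) (t := C.XF.erase 1) (fun (B : Finset Ω) (x : G) => x • B = B)
  have e1 : ∀ B ∈ C.S c,
      ((C.XF.erase 1).bipartiteAbove (fun (B : Finset Ω) (x : G) => x • B = B) B).card = C.a - 1 := by
    intro B hB
    rw [mem_S] at hB
    rw [← C.card_U hB.2.1 hB.1, ← C.card_filter_U,
      ← card_erase_of_mem (show (1 : G) ∈ C.XF.filter fun x => x • B = B by simp)]
    congr 1
    ext x
    simp [bipartiteAbove, and_assoc]
  rw [sum_congr rfl e1, sum_const, C.card_S hc, smul_eq_mul] at h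
  have h' := congrArg (Nat.cast : ℕ → ℤ) h
  have := C.D.two_le
  have := C.a_two
  push_cast [Nat.cast_sub (show 1 ≤ C.D.k by omega), Nat.cast_sub (show 1 ≤ C.a by omega)] at h'
  rw [h']
  exact sum_congr rfl fun x _ => rfl

theorem card_filter_mem (K : Subgroup G) [DecidablePred (· ∈ K)] (hK : K ≤ C.X) :
    (C.XF.filter (· ∈ K)).card = Nat.card K := by
  rw [← Nat.card_eq_finsetCard]
  exact Nat.card_congr (Equiv.subtypeEquivRight fun x => by simp; exact fun h => hK h)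

/-- If `x ∈ Un c` for all `x`, the weights split between `I c` and the rest. -/
theorem sum_split {c : Ω} (hc : c ∈ C.Δ) (K : Subgroup G) (hK : K ≤ C.X) {v w : ℤ}
    (h1 : ∀ x ∈ C.X, x ≠ 1 → x ∈ K → (C.dg x c : ℤ) = v)
    (h2 : ∀ x ∈ C.X, x ∉ K → (C.dg x c : ℤ) = w) :
    ((C.D.k : ℤ) - 1) * ((C.a : ℤ) - 1) = ((Nat.card K : ℤ) - 1) * v + ((C.e : ℤ) - Nat.card K) * w := by
  classical
  rw [← C.sum_dg_X hc, ← sum_filter_add_sum_filter_not (C.XF.erase 1) (· ∈ K)]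
  have a1 : ∀ x ∈ (C.XF.erase 1).filter (· ∈ K), (C.dg x c : ℤ) = v := fun x hx => by
    simp at hx; exact h1 x hx.1.2 hx.1.1 hx.2
  have a2 : ∀ x ∈ (C.XF.erase 1).filter (¬ · ∈ K), (C.dg x c : ℤ) = w := fun x hx => by
    simp at hx; exact h2 x hx.1.2 hx.2
  have c1 : (((C.XF.erase 1).filter (· ∈ K)).card : ℤ) = (Nat.card K : ℤ) - 1 := by
    rw [filter_erase, card_erase_of_mem (by simp [K.one_mem]), C.card_filter_mem K hK]
    have : 0 < Nat.card K := Nat.card_pos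
    omega
  have c2 : (((C.XF.erase 1).filter (¬ · ∈ K)).card : ℤ) = (C.e : ℤ) - Nat.card K := by
    have h := card_filter_add_card_filter_not (s := C.XF.erase 1) (· ∈ K)
    rw [card_erase_of_mem (by simp), C.card_XF] at h
    have : 0 < C.e := by have := C.two_le_e; omega
    omega
  rw [sum_congr rfl a1, sum_congr rfl a2, sum_const, sum_const, nsmul_eq_mul, nsmul_eq_mul, c1, c2]

theorem s_dvd_dg {x : G} (hx : x ∈ C.X) (c : Ω) (hc : c ∈ C.Δ) : C.s ∣ C.dg x c := by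
  refine C.orbit_dvd _ (fun B hB => ?_) (fun z hz B hB => ?_)
  · simp at hB; exact ⟨hB.1.2.1, hB.1.1⟩
  · simp only [mem_filter, mem_S] at hB ⊢
    refine ⟨⟨fun h => hB.1.1 (smul_left_cancel z (h.trans (C.X_fixΔ hz).symm)),
      C.inv z B hB.1.2.1, ?_⟩, ?_⟩
    · rw [← C.X_fix z hz c hc]; exact smul_mem_smul_finset hB.1.2.2
    · rw [← mul_smul, C.X_comm x hx z hz, mul_smul, hB.2]

theorem eq_pow {K : Subgroup G} (hK : K ≤ C.X) : ∃ i, Nat.card K = C.pp ^ i :=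
  haveI : Fact C.pp.Prime := ⟨C.pp_prime⟩
  (C.X_pgroup.to_le hK).exists_card_eq

theorem T_conj {g : G} (hg : g • C.Δ = C.Δ) {c : Ω} {x : G} (hx : x ∈ C.Un c) :
    g * x * g⁻¹ ∈ C.Un (g • c) := by
  obtain ⟨B, hB, hxU⟩ := hx
  refine (C.dg_pos_iff (C.X_normal g hg x (C.U_le B hxU))).1 ?_
  rw [C.dg_conj hg]
  exact (C.dg_pos_iff (C.U_le B hxU)).2 ⟨B, hB, hxU⟩

theorem card_T_eq {c c' : Ω} (hc : c ∈ C.Δ) (hc' : c' ∈ C.Δ) :
    Nat.card (C.T c hc) = Nat.card (C.T c' hc') := by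
  obtain ⟨g, hg, hgc⟩ := C.trans c hc c' hc'
  have hg' : g⁻¹ • C.Δ = C.Δ := by rw [inv_smul_eq_iff, hg]
  have hgc' : g⁻¹ • c' = c := by rw [inv_smul_eq_iff, hgc]
  refine Nat.card_congr
    { toFun := fun x => ⟨g * x.1 * g⁻¹, by rw [C.mem_T, ← hgc]; exact C.T_conj hg (C.mem_T.1 x.2)⟩
      invFun := fun x => ⟨g⁻¹ * x.1 * g, by
        have h := C.T_conj hg' (C.mem_T.1 x.2)
        rw [inv_inv, hgc'] at h
        exact C.mem_T.2 h⟩
      left_inv := fun x => Subtype.ext (by simp [mul_assoc])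
      right_inv := fun x => Subtype.ext (by simp [mul_assoc]) }

theorem I_ne_bot {c₀ : Ω} (hc₀ : c₀ ∈ C.Δ) : C.I c₀ ≠ ⊥ := by
  classical
  intro hbot
  have hall : ∀ c ∈ C.Δ, C.I c = ⊥ := fun c hc => by
    rw [Subgroup.eq_bot_iff_forall]
    intro x hx
    obtain ⟨g, hg, hgc⟩ := C.trans c hc c₀ hc₀
    have h := C.I_conj hg hc hx
    rw [hgc, hbot, Subgroup.mem_bot] at h
    calc x = g⁻¹ * (g * x * g⁻¹) * g := by group
      _ = 1 := by rw [h]; group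
  obtain ⟨B₀, hB₀⟩ := C.exists_mem_S hc₀
  have hB₀' := C.mem_S.1 hB₀
  obtain ⟨w, hw, hw1⟩ : ∃ w ∈ C.U B₀, w ≠ 1 := by
    have := C.a_two
    rw [← C.card_U hB₀'.2.1 hB₀'.1] at this
    haveI : Nontrivial (C.U B₀) := Finite.one_lt_card_iff_nontrivial.1 (by omega)
    obtain ⟨⟨w, hw⟩, h⟩ := exists_ne (1 : C.U B₀)
    exact ⟨w, hw, fun h' => h (Subtype.ext h')⟩
  set δ := C.dg w c₀ with hδ
  have hwn : w ∈ C.Un c₀ := ⟨B₀, hB₀, hw⟩
  have hδpos : 0 < δ := (C.dg_pos_iff (C.U_le _ hw)).2 hwn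
  have hdisj : ∀ c ∈ C.Δ, ∀ x, x ≠ 1 → x ∉ C.I c := fun c hc x hx1 hx =>
    hx1 (by rwa [hall c hc, Subgroup.mem_bot] at hx)
  have hzero : ∀ c (hc : c ∈ C.Δ), ∀ x ∈ C.X, x ∉ C.T c hc → (C.dg x c : ℤ) = 0 := by
    intro c hc x hx hxT
    have : ¬ 0 < C.dg x c := fun h => hxT (C.mem_T.2 ((C.dg_pos_iff hx).1 h))
    omega
  have hsum₀ := C.sum_split hc₀ (C.T c₀ hc₀) (C.T_le hc₀) (v := (δ : ℤ)) (w := 0)
    (fun x hx hx1 hxT => by
      rw [hδ, C.dg_const (C.mem_T.1 hxT) (hdisj c₀ hc₀ x hx1) hwn (hdisj c₀ hc₀ w hw1)])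
    (hzero c₀ hc₀)
  have hT2 : (C.a : ℤ) ≤ Nat.card (C.T c₀ hc₀) := by
    rw [← C.card_U hB₀'.2.1 hB₀'.1]
    exact_mod_cast Subgroup.card_le_of_le fun x hx => C.mem_T.2 ⟨B₀, hB₀, hx⟩
  have ha := C.a_two
  have hval : ∀ c ∈ C.Δ, ∀ x ∈ C.X, x ≠ 1 → (C.dg x c : ℤ) ^ 2 = δ * C.dg x c := by
    intro c hc x hx hx1
    by_cases hxT : x ∈ C.T c hc
    · have hs := C.sum_split hc (C.T c hc) (C.T_le hc) (v := (C.dg x c : ℤ)) (w := 0)
        (fun z _ hz1 hzT => by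
          rw [C.dg_const (C.mem_T.1 hzT) (hdisj c hc z hz1) (C.mem_T.1 hxT) (hdisj c hc x hx1)])
        (hzero c hc)
      rw [hsum₀, C.card_T_eq hc hc₀, mul_zero, add_zero, add_zero] at hs
      have := mul_left_cancel₀ (show ((Nat.card (C.T c₀ hc₀) : ℤ) - 1) ≠ 0 by omega) hs
      rw [this]; ring
    · rw [hzero c hc x hx hxT]; ring
  obtain ⟨x, hx, hx1⟩ := C.exists_ne_one
  have hm := C.sum_dg_sq hx hx1
  rw [sum_congr rfl fun c hc => hval c hc x hx hx1, ← mul_sum, C.sum_dg hx hx1] at hm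
  have hk := C.D.two_le
  have hl := C.D.l_pos
  have hδl : (δ : ℤ) * C.D.l = (C.D.l : ℤ) ^ 2 - 2 * C.D.l + C.D.k :=
    mul_left_cancel₀ (show ((C.D.k : ℤ) - 1) ≠ 0 by omega) (by linarith)
  set m : ℤ := (δ : ℤ) - C.D.l + 2 with hmdef
  have hkm : (C.D.k : ℤ) = C.D.l * m := by rw [hmdef]; linear_combination -hδl
  have hdk : (C.D.k : ℤ) = C.d + C.D.l * C.s := by exact_mod_cast C.k_eq
  have had : (C.a : ℤ) * C.d + C.D.l = C.D.k := by exact_mod_cast C.ad_eq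
  set j : ℤ := m - C.s with hj
  have hdj : (C.d : ℤ) = C.D.l * j := by rw [hj]; linear_combination hkm - hdk
  have hja : j * ((C.a : ℤ) - 1) = (C.s : ℤ) - 1 :=
    mul_left_cancel₀ (show (C.D.l : ℤ) ≠ 0 by omega)
      (by linear_combination had + hdk - ((C.a : ℤ) - 1) * hdj)
  have hsa : (C.s : ℤ) ≤ C.a := by exact_mod_cast C.s_le_a
  have hjpos : 0 < j := by
    have : (0 : ℤ) < C.D.l * j := by rw [← hdj]; exact_mod_cast C.d_pos
    exact pos_of_mul_pos_right this (by positivity)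
  have hj1 : j = 1 := by
    by_contra hne
    have : 2 * ((C.a : ℤ) - 1) ≤ j * ((C.a : ℤ) - 1) :=
      mul_le_mul_of_nonneg_right (by omega) (by omega)
    omega
  have haseq : (C.a : ℤ) = C.s := by rw [hj1, one_mul] at hja; omega
  have hδs : (δ : ℤ) = C.D.l + C.s - 1 := by omega
  have hk' : (C.D.k : ℤ) = C.D.l * (C.s + 1) := by
    rw [hkm, show m = (C.s : ℤ) + 1 by omega]
  obtain ⟨j', hj'⟩ := C.s_dvd_dg (C.U_le _ hw) c₀ hc₀
  rw [← hδ] at hj'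
  rw [mul_zero, add_zero, haseq] at hsum₀
  set Tc := Nat.card (C.T c₀ hc₀) with hTc
  have hjz : (δ : ℤ) = C.s * j' := by exact_mod_cast hj'
  have hmain : (j' : ℤ) * ((C.s : ℤ) ^ 2 - Tc) = (C.s : ℤ) * ((C.s : ℤ) - 1) := by
    refine mul_left_cancel₀ (show (C.s : ℤ) ≠ 0 by have := C.s_pos; omega) ?_
    linear_combination hsum₀ - ((C.s : ℤ) - 1) * hk'
      + ((C.s : ℤ) - 1) * ((C.s : ℤ) + 1) * hδs - ((C.s : ℤ) ^ 2 - Tc) * hjz
  have hlt : (Tc : ℤ) < (C.s : ℤ) ^ 2 := by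
    have : (0 : ℤ) < (j' : ℤ) * ((C.s : ℤ) ^ 2 - Tc) := by
      rw [hmain]; have := C.s_two; exact mul_pos (by omega) (by omega)
    have := pos_of_mul_pos_right this (by positivity)
    omega
  -- two different stabilisers, so `Tc` exceeds `s`
  have hgt : C.s < Tc := by
    obtain ⟨B, hB, hwB⟩ := C.exists_not_mem (C.U_le _ hw) (hdisj c₀ hc₀ w hw1)
    have hB' := C.mem_S.1 hB
    have hle : C.U B ≤ C.T c₀ hc₀ := fun x hx => C.mem_T.2 ⟨B, hB, hx⟩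
    have hlt' : C.U B < C.T c₀ hc₀ :=
      lt_of_le_of_ne hle fun h => hwB (h ▸ C.mem_T.2 hwn)
    have h1 : Nat.card (C.U B) ≤ Tc := Subgroup.card_le_of_le hle
    have h2 : Nat.card (C.U B) ≠ Tc := fun h =>
      hlt'.ne (Subgroup.eq_of_le_of_card_ge hle h.ge)
    rw [C.card_U hB'.2.1 hB'.1] at h1 h2
    omega
  obtain ⟨i, hi⟩ := C.eq_pow (C.T_le hc₀)
  obtain ⟨i', hi'⟩ := C.eq_pow (C.U_le B₀)
  rw [C.card_U hB₀'.2.1 hB₀'.1] at hi'
  rw [← hTc] at hi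
  have hsi : C.s = C.pp ^ i' := by omega
  have hp := C.pp_prime
  have hii : i' < i := (Nat.pow_lt_pow_iff_right hp.one_lt).1 (by omega)
  have hi2 : i < 2 * i' := (Nat.pow_lt_pow_iff_right hp.one_lt).1 (by
    rw [← hi, mul_comm, pow_mul, ← hsi]; exact_mod_cast hlt)
  have hdvd : (C.pp : ℤ) ^ i ∣ (C.s : ℤ) * ((C.s : ℤ) - 1) := by
    rw [← hmain, hi, hsi]
    push_cast
    refine Dvd.dvd.mul_left (dvd_sub ?_ dvd_rfl) _
    rw [← pow_mul]
    exact pow_dvd_pow _ (by omega)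
  have hcop : IsCoprime ((C.pp : ℤ) ^ i) ((C.s : ℤ) - 1) := by
    refine IsCoprime.pow_left ?_
    rw [hsi, show i' = (i' - 1) + 1 from by
      rcases Nat.eq_zero_or_pos i' with h0 | h0
      · rw [h0] at hsi; have := C.s_two; simp at hsi; omega
      · omega]
    push_cast
    exact ⟨(C.pp : ℤ) ^ (i' - 1), -1, by ring⟩
  have := Int.le_of_dvd (by have := C.s_pos; omega) (hcop.dvd_of_dvd_mul_right hdvd)
  have : C.pp ^ i ≤ C.s := by exact_mod_cast this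
  omega

theorem I_disjoint {c c' : Ω} (hc : c ∈ C.Δ) (hc' : c' ∈ C.Δ) (hne : c' ≠ c) {x : G}
    (hx : x ∈ C.I c) (hx' : x ∈ C.I c') : x = 1 := by
  by_contra hx1
  have h1 := C.others_eq (C.I_le c hx) hx1 hc (C.dg_eq_of_mem_I hc hx) hc' hne
  rw [C.dg_eq_of_mem_I hc' hx'] at h1
  have := C.D.l_lt
  have := C.D.l_pos
  omega

theorem dg_eq_of_not_mem {c : Ω} (hc : c ∈ C.Δ) {x : G} (hx : x ∈ C.X) (hxI : x ∉ C.I c) :
    C.dg x c = C.D.l - 1 := by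
  have hk := C.D.two_le
  have hl := C.D.l_pos
  have hx1 : x ≠ 1 := fun h => hxI (h ▸ (C.I c).one_mem)
  by_cases hl1 : C.D.l = 1
  · -- weights are nonnegative here
    have h1 := C.sum_dg hx hx1
    have h2 := C.sum_dg_sq hx hx1
    have h0 : ∑ d ∈ C.Δ, (C.dg x d : ℤ) * ((C.D.k : ℤ) - 1 - C.dg x d) = 0 := by
      have e : ∀ d ∈ C.Δ, (C.dg x d : ℤ) * ((C.D.k : ℤ) - 1 - C.dg x d)
          = ((C.D.k : ℤ) - 1) * C.dg x d - (C.dg x d : ℤ) ^ 2 := fun d _ => by ring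
      rw [sum_congr rfl e, sum_sub_distrib, ← mul_sum, h1, h2, hl1]
      push_cast
      ring
    have h3 := (sum_eq_zero_iff_of_nonneg fun d hd => mul_nonneg (by positivity)
      (by have := C.dg_le (x := x) hd; omega)).1 h0 c hc
    rcases mul_eq_zero.1 h3 with h4 | h4
    · omega
    · exact absurd (C.mem_I_of_dg hc hx (by omega)) hxI
  · obtain ⟨c', hc', hne⟩ := exists_mem_ne (show 1 < C.Δ.card by
      rw [C.D.card_block _ C.hΔ]; omega) c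
    obtain ⟨⟨z, hz⟩, hz1⟩ := Subgroup.ne_bot_iff_exists_ne_one.1 (C.I_ne_bot hc')
    have hz1' : z ≠ 1 := fun h => hz1 (Subtype.ext h)
    have hzc : C.dg z c = C.D.l - 1 :=
      C.others_eq (C.I_le c' hz) hz1' hc' (C.dg_eq_of_mem_I hc' hz) hc hne.symm
    have hzI : z ∉ C.I c := fun h => hz1' (C.I_disjoint hc hc' hne h hz)
    have hzn : z ∈ C.Un c := (C.dg_pos_iff (C.I_le c' hz)).1 (by omega)
    -- the centred elements generate
    set K : Subgroup G := ⨆ d ∈ C.Δ, C.I d with hK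
    have hKX : K = C.X := by
      refine (C.X_min K (iSup₂_le fun d _ => C.I_le d) fun g hg y hy => ?_).resolve_left ?_
      · have hle : K ≤ K.comap (MulAut.conj g).toMonoidHom := by
          refine iSup₂_le fun d hd => fun w hw => ?_
          have hgd : g • d ∈ C.Δ := by rw [← hg]; exact smul_mem_smul_finset hd
          have h : C.I (g • d) ≤ K := le_iSup₂_of_le (g • d) hgd le_rfl
          exact h (C.I_conj hg hd hw)
        exact hle hy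
      · intro h
        exact C.I_ne_bot hc (le_bot_iff.1 (h ▸ le_iSup₂_of_le c hc le_rfl))
    have hKT : K ≤ C.T c hc := by
      refine iSup₂_le fun d hd => fun w hw => ?_
      by_cases hdc : d = c
      · obtain ⟨B, hB⟩ := C.exists_mem_S hc
        exact C.mem_T.2 ⟨B, hB, C.I_le_U hB (hdc ▸ hw)⟩
      by_cases hw1 : w = 1
      · exact hw1 ▸ (C.T c hc).one_mem
      refine C.mem_T.2 ((C.dg_pos_iff (C.I_le d hw)).1 ?_)
      rw [C.others_eq (C.I_le d hw) hw1 hd (C.dg_eq_of_mem_I hd hw) hc (Ne.symm hdc)]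
      omega
    rw [← hzc]
    exact C.dg_const (C.mem_T.1 (hKT (hKX ▸ hx))) hxI hzn hzI

theorem card_I_eq {c : Ω} (hc : c ∈ C.Δ) : (Nat.card (C.I c) - 1) * C.d = C.s - 1 := by
  have h := C.sum_split hc (C.I c) (C.I_le c) (v := (C.D.k : ℤ) - 1) (w := (C.D.l : ℤ) - 1)
    (fun x hx _ hxI => by
      rw [C.dg_eq_of_mem_I hc hxI]; have := C.D.two_le; omega)
    (fun x hx hxI => by
      rw [C.dg_eq_of_not_mem hc hx hxI]; have := C.D.l_pos; omega)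
  have had : (C.a : ℤ) * C.d + C.D.l = C.D.k := by exact_mod_cast C.ad_eq
  have hdk : (C.D.k : ℤ) = C.d + C.D.l * C.s := by exact_mod_cast C.k_eq
  have he : (C.e : ℤ) = C.a * C.s := by exact_mod_cast C.e_eq
  have hI : 1 ≤ Nat.card (C.I c) := Nat.card_pos
  have ha : (C.a : ℤ) ≠ 0 := by have := C.a_two; omega
  have hs := C.s_pos
  have : (((Nat.card (C.I c) - 1) * C.d : ℕ) : ℤ) = ((C.s - 1 : ℕ) : ℤ) := by
    push_cast [Nat.cast_sub hI, Nat.cast_sub (show 1 ≤ C.s by omega)]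
    refine mul_left_cancel₀ ha ?_
    rw [he] at h
    linear_combination -h + ((Nat.card (C.I c) : ℤ) - 1) * had + had + (C.a : ℤ) * hdk
  exact_mod_cast this

theorem d_eq_one : C.d = 1 := by
  obtain ⟨c, hc⟩ := card_pos.1 (show 0 < C.Δ.card by
    rw [C.D.card_block _ C.hΔ]; have := C.D.two_le; omega)
  have h := C.card_I_eq hc
  have h2 : 2 ≤ Nat.card (C.I c) := by
    haveI : Nontrivial (C.I c) := (Subgroup.nontrivial_iff_ne_bot _).2 (C.I_ne_bot hc)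
    exact Finite.one_lt_card
  have hle : C.d ≤ C.s - 1 := h ▸ Nat.le_mul_of_pos_left _ (by omega)
  obtain ⟨t, ht⟩ := C.s_dvd_d
  rcases Nat.eq_zero_or_pos t with rfl | htp
  · have := C.d_pos; omega
  · have := Nat.le_mul_of_pos_right C.s htp
    have := C.s_two
    omega

theorem card_I {c : Ω} (hc : c ∈ C.Δ) : Nat.card (C.I c) = C.s := by
  have h := C.card_I_eq hc
  rw [C.d_eq_one, mul_one] at h
  have : 1 ≤ Nat.card (C.I c) := Nat.card_pos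
  have := C.s_pos
  omega

theorem k_val : C.D.k = 1 + C.D.l * C.s := by rw [C.k_eq, C.d_eq_one]

theorem a_add : C.a + C.D.l = C.D.k := by simpa [C.d_eq_one] using C.ad_eq

theorem exists_centre {x : G} (hx : x ∈ C.X) (hx1 : x ≠ 1) : ∃ c ∈ C.Δ, x ∈ C.I c := by
  by_contra h
  push_neg at h
  have h1 := C.sum_dg hx hx1
  rw [sum_congr rfl fun c hc => by rw [C.dg_eq_of_not_mem hc hx (h c hc)], sum_const,
    C.D.card_block _ C.hΔ, nsmul_eq_mul] at h1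
  have := C.D.l_lt
  have := C.D.l_pos
  push_cast [Nat.cast_sub (show 1 ≤ C.D.l by omega)] at h1
  linarith

theorem card_compl : Fintype.card Ω = C.D.k + C.e := by
  have hm := congrArg (Nat.cast : ℕ → ℤ) C.D.l_mul
  have := C.D.two_le
  have := C.D.k_lt
  push_cast [Nat.cast_sub (show 1 ≤ C.D.k by omega),
    Nat.cast_sub (show 1 ≤ Fintype.card Ω by omega)] at hm
  have hk : (C.D.k : ℤ) = 1 + C.D.l * C.s := by exact_mod_cast C.k_val
  have ha : (C.a : ℤ) + C.D.l = C.D.k := by exact_mod_cast C.a_add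
  have he : (C.e : ℤ) = C.a * C.s := by exact_mod_cast C.e_eq
  have : ((Fintype.card Ω : ℕ) : ℤ) = ((C.D.k + C.e : ℕ) : ℤ) := by
    push_cast
    refine mul_left_cancel₀ (show (C.D.l : ℤ) ≠ 0 by have := C.D.l_pos; omega) ?_
    linear_combination hm - (C.D.l : ℤ) * he - (C.D.l : ℤ) * (C.s : ℤ) * ha
      + ((C.D.k : ℤ) - C.D.l) * hk
  exact_mod_cast this

theorem exists_smul_eq {p q : Ω} (hp : p ∉ C.Δ) (hq : q ∉ C.Δ) : ∃ x ∈ C.X, x • p = q := by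
  have hsub : C.XF.image (fun x => x • p) ⊆ univ \ C.Δ := fun r hr => by
    obtain ⟨x, hx, rfl⟩ := mem_image.1 hr
    exact mem_sdiff.2 ⟨mem_univ _, C.smul_not_mem (C.X_fixΔ (C.mem_XF.1 hx)) hp⟩
  have hcard : (univ \ C.Δ).card ≤ (C.XF.image (fun x => x • p)).card := by
    rw [card_image_of_injOn fun x hx z hz h => C.inj_orbit (C.mem_XF.1 hx) (C.mem_XF.1 hz) hp h,
      C.card_XF, card_sdiff_of_subset (subset_univ _), card_univ, C.D.card_block _ C.hΔ,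
      C.card_compl]
    omega
  have h := eq_of_subset_of_card_le hsub hcard
  have hq' : q ∈ C.XF.image (fun x => x • p) := by rw [h]; simp [hq]
  obtain ⟨x, hx, rfl⟩ := mem_image.1 hq'
  exact ⟨x, C.mem_XF.1 hx, rfl⟩

end Cfg

end Cfsg.Agent.Perm.AxialDesign
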