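import Cfsg.Agent.Lib.Perm.AxialDesign.Centre

/-!
Lines of the design: they have `s + 1` points, meet every block, and the centred subgroups
along a line inside `Δ` fill the product of any two of them.
-/

set_option autoImplicit false

open scoped Pointwise
open Finset

namespace Cfsg.Agent.Perm.AxialDesign

variable {G Ω : Type*} [Group G] [Finite G] [DecidableEq G] [Fintype Ω] [DecidableEq Ω] [MulAction G Ω]

namespace Cfg

variable (C : Cfg G Ω)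

/-- The intersection of all blocks through two points. -/
def line (p q : Ω) : Finset Ω := univ.filter fun r => ∀ B ∈ C.D.star2 p q, r ∈ B

@[simp] theorem mem_line {p q r : Ω} : r ∈ C.line p q ↔ ∀ B ∈ C.D.star2 p q, r ∈ B := by
  simp [line]

theorem left_mem_line (p q : Ω) : p ∈ C.line p q :=
  C.mem_line.2 fun _ hB => (C.D.mem_star2.1 hB).2.1

theorem right_mem_line (p q : Ω) : q ∈ C.line p q :=
  C.mem_line.2 fun _ hB => (C.D.mem_star2.1 hB).2.2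

theorem line_subset {p q : Ω} {B : Finset Ω} (hB : B ∈ C.D.blocks) (hp : p ∈ B) (hq : q ∈ B) :
    C.line p q ⊆ B := fun _ hr => C.mem_line.1 hr B (C.D.mem_star2.2 ⟨hB, hp, hq⟩)

theorem line_comm (p q : Ω) : C.line p q = C.line q p := by
  ext r; simp [C.D.star2_comm p q]

theorem smul_mem_star2 {g : G} {p q : Ω} {B : Finset Ω} (hB : B ∈ C.D.star2 p q) :
    g • B ∈ C.D.star2 (g • p) (g • q) := by
  rw [Des.mem_star2] at hB ⊢
  exact ⟨C.inv g B hB.1, smul_mem_smul_finset hB.2.1, smul_mem_smul_finset hB.2.2⟩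

theorem smul_mem_line {g : G} {p q r : Ω} (hr : r ∈ C.line p q) :
    g • r ∈ C.line (g • p) (g • q) := by
  rw [mem_line] at hr ⊢
  intro B hB
  have h := C.smul_mem_star2 (g := g⁻¹) hB
  rw [inv_smul_smul, inv_smul_smul] at h
  exact mem_inv_smul_finset_iff.1 (hr _ h)

theorem smul_line (g : G) (p q : Ω) : g • C.line p q = C.line (g • p) (g • q) := by
  ext r
  constructor
  · intro h
    obtain ⟨t, ht, rfl⟩ := mem_smul_finset.1 h
    exact C.smul_mem_line ht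
  · intro h
    have h' := C.smul_mem_line (g := g⁻¹) h
    rw [inv_smul_smul, inv_smul_smul] at h'
    exact mem_smul_finset.2 ⟨_, h', smul_inv_smul g r⟩

theorem star2_sub_eq {p q r t : Ω} (hpq : p ≠ q) (hrt : r ≠ t)
    (h : C.D.star2 p q ⊆ C.D.star2 r t) : C.D.star2 p q = C.D.star2 r t :=
  eq_of_subset_of_card_le h (by rw [C.D.card_star2 hpq, C.D.card_star2 hrt])

theorem star2_eq_of_mem_line {p q r t : Ω} (hpq : p ≠ q) (hrt : r ≠ t) (hr : r ∈ C.line p q)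
    (ht : t ∈ C.line p q) : C.D.star2 p q = C.D.star2 r t :=
  C.star2_sub_eq hpq hrt fun B hB =>
    C.D.mem_star2.2 ⟨(C.D.mem_star2.1 hB).1, C.mem_line.1 hr B hB, C.mem_line.1 ht B hB⟩

theorem line_eq {p q r t : Ω} (hpq : p ≠ q) (hrt : r ≠ t) (hr : r ∈ C.line p q)
    (ht : t ∈ C.line p q) : C.line r t = C.line p q := by
  unfold line
  rw [C.star2_eq_of_mem_line hpq hrt hr ht]

theorem smul_mem_line_centre {c : Ω} (hc : c ∈ C.Δ) {x : G} (hx : x ∈ C.I c) {p : Ω}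
    (hp : p ∉ C.Δ) : x • p ∈ C.line c p := by
  rw [mem_line]
  intro B hB
  rw [Des.mem_star2] at hB
  rw [← (C.mem_I.1 hx).2 B (C.mem_S.2 ⟨fun h => hp (h ▸ hB.2.2), hB.1, hB.2.1⟩)]
  exact smul_mem_smul_finset hB.2.2

theorem ne_of_mem_not_mem {c p : Ω} (hc : c ∈ C.Δ) (hp : p ∉ C.Δ) : c ≠ p := fun h => hp (h ▸ hc)

theorem star2_centre {c : Ω} (hc : c ∈ C.Δ) {x : G} (hx : x ∈ C.I c) (hx1 : x ≠ 1) {p : Ω}
    (hp : p ∉ C.Δ) : C.D.star2 c p = C.D.star2 p (x • p) :=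
  C.star2_sub_eq (C.ne_of_mem_not_mem hc hp)
    (fun h => hx1 (C.semireg (C.I_le c hx) hp h.symm)) fun B hB =>
    C.D.mem_star2.2 ⟨(C.D.mem_star2.1 hB).1, (C.D.mem_star2.1 hB).2.2,
      C.mem_line.1 (C.smul_mem_line_centre hc hx hp) B hB⟩

theorem star2_injective {c c' : Ω} (hc : c ∈ C.Δ) (hc' : c' ∈ C.Δ) {p : Ω} (hp : p ∉ C.Δ)
    (h : C.D.star2 c p = C.D.star2 c' p) : c = c' := by
  by_contra hne
  have hsub : C.D.star c ⊆ C.D.star2 c c' := fun B hB => by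
    rw [Des.mem_star] at hB
    rw [Des.mem_star2]
    refine ⟨hB.1, hB.2, ?_⟩
    by_cases hBΔ : B = C.Δ
    · exact hBΔ ▸ hc'
    obtain ⟨q, hqB, hq⟩ := C.exists_outside_mem hB.1 hBΔ
    obtain ⟨x, hx, rfl⟩ := C.exists_smul_eq hp hq
    have h1 : x⁻¹ • B ∈ C.D.star2 c p := by
      have := C.smul_mem_star2 (g := x⁻¹) (p := c) (q := x • p) (B := B)
        (C.D.mem_star2.2 ⟨hB.1, hB.2, hqB⟩)
      rwa [inv_smul_smul, C.X_fix _ (C.X.inv_mem hx) c hc] at this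
    rw [h, Des.mem_star2] at h1
    have h2 := h1.2.1
    rw [mem_inv_smul_finset_iff, C.X_fix x hx c' hc'] at h2
    exact h2
  have := card_le_card hsub
  rw [C.D.card_star, C.D.card_star2 hne] at this
  exact absurd C.D.l_lt (by omega)

theorem line_centre {c : Ω} (hc : c ∈ C.Δ) {p : Ω} (hp : p ∉ C.Δ) {r : Ω} :
    r ∈ C.line c p ↔ r = c ∨ ∃ x ∈ C.I c, x • p = r := by
  constructor
  · intro hr
    by_cases hrΔ : r ∈ C.Δ
    · exact Or.inl (C.star2_injective hc hrΔ hp (C.star2_eq_of_mem_line (C.ne_of_mem_not_mem hc hp)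
        (C.ne_of_mem_not_mem hrΔ hp) hr (C.right_mem_line c p))).symm
    · right
      obtain ⟨z, hz, rfl⟩ := C.exists_smul_eq hp hrΔ
      by_cases hz1 : z = 1
      · exact ⟨z, hz1 ▸ (C.I c).one_mem, rfl⟩
      obtain ⟨c', hc', hzc'⟩ := C.exists_centre hz hz1
      have h1 := C.star2_eq_of_mem_line (C.ne_of_mem_not_mem hc hp)
        (fun h => hz1 (C.semireg hz hp h.symm)) (C.right_mem_line c p) hr
      rw [← C.star2_centre hc' hzc' hz1 hp] at h1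
      exact ⟨z, C.star2_injective hc hc' hp h1 ▸ hzc', rfl⟩
  · rintro (rfl | ⟨x, hx, rfl⟩)
    · exact C.left_mem_line r p
    · exact C.smul_mem_line_centre hc hx hp

theorem card_line_centre {c : Ω} (hc : c ∈ C.Δ) {p : Ω} (hp : p ∉ C.Δ) :
    (C.line c p).card = C.s + 1 := by
  classical
  have h : C.line c p = insert c ((C.XF.filter (· ∈ C.I c)).image fun x => x • p) := by
    ext r
    rw [C.line_centre hc hp, mem_insert, mem_image]
    refine or_congr Iff.rfl ⟨?_, ?_⟩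
    · rintro ⟨x, hx, rfl⟩; exact ⟨x, by simp [hx, C.I_le c hx], rfl⟩
    · rintro ⟨x, hx, rfl⟩; simp at hx; exact ⟨x, hx.2, rfl⟩
  rw [h, card_insert_of_notMem, card_image_of_injOn, C.card_filter_mem _ (C.I_le c), C.card_I hc]
  · intro x hx z hz he
    simp at hx hz
    exact C.inj_orbit hx.1 hz.1 hp he
  · intro hm
    obtain ⟨x, hx, hxp⟩ := mem_image.1 hm
    simp at hx
    exact C.smul_not_mem (C.X_fixΔ hx.1) hp (hxp ▸ hc)

theorem card_line {p q : Ω} (hpq : p ≠ q) : (C.line p q).card = C.s + 1 := by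
  obtain ⟨c, hc⟩ := card_pos.1 (show 0 < C.Δ.card by
    rw [C.D.card_block _ C.hΔ]; have := C.D.two_le; omega)
  obtain ⟨o, ho⟩ := C.exists_outside
  obtain ⟨g, hg1, hg2⟩ := C.trans2 c o p q (C.ne_of_mem_not_mem hc ho) hpq
  rw [← hg1, ← hg2, ← C.smul_line, card_smul_finset, C.card_line_centre hc ho]

theorem exists_move_to {B : Finset Ω} (hB : B ∈ C.D.blocks) : ∃ g : G, g • B = C.Δ := by
  by_cases h : B = C.Δ
  · exact ⟨1, by simp [h]⟩
  · obtain ⟨g, -, hg⟩ := C.btrans C.Δ B B C.Δ C.hΔ hB hB C.hΔ (Ne.symm h) h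
    exact ⟨g, hg⟩

/-- Every line meets every block. -/
theorem line_meets {p q : Ω} (hpq : p ≠ q) {B : Finset Ω} (hB : B ∈ C.D.blocks) :
    ∃ r ∈ C.line p q, r ∈ B := by
  obtain ⟨g, hg⟩ := C.exists_move_to hB
  suffices h : ∃ r ∈ C.line (g • p) (g • q), r ∈ C.Δ by
    obtain ⟨r, hr, hrΔ⟩ := h
    refine ⟨g⁻¹ • r, ?_, ?_⟩
    · have := C.smul_mem_line (g := g⁻¹) hr
      rwa [inv_smul_smul, inv_smul_smul] at this
    · rw [← hg] at hrΔ
      rwa [← mem_inv_smul_finset_iff, inv_inv] 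
  set P := g • p
  set Q := g • q
  have hPQ : P ≠ Q := fun h => hpq (smul_left_cancel g h)
  by_cases hP : P ∈ C.Δ
  · exact ⟨P, C.left_mem_line P Q, hP⟩
  by_cases hQ : Q ∈ C.Δ
  · exact ⟨Q, C.right_mem_line P Q, hQ⟩
  obtain ⟨z, hz, hzP⟩ := C.exists_smul_eq hP hQ
  have hz1 : z ≠ 1 := fun h => hPQ (by rw [← hzP, h, one_smul])
  obtain ⟨c, hc, hzc⟩ := C.exists_centre hz hz1
  refine ⟨c, C.mem_line.2 fun A hA => ?_, hc⟩
  rw [← hzP, ← C.star2_centre hc hzc hz1 hP] at hA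
  exact (C.D.mem_star2.1 hA).2.1

theorem mem_U_iff {c : Ω} (hc : c ∈ C.Δ) {x : G} (hx : x ∈ C.I c) (hx1 : x ≠ 1) {B : Finset Ω}
    (hB : B ∈ C.D.blocks) (hne : B ≠ C.Δ) : x ∈ C.U B ↔ c ∈ B := by
  constructor
  · intro h
    obtain ⟨p, hpB, hp⟩ := C.exists_outside_mem hB hne
    have h1 : B ∈ C.D.star2 p (x • p) := C.D.mem_star2.2
      ⟨hB, hpB, by rw [← (C.mem_U.1 h).2]; exact smul_mem_smul_finset hpB⟩
    rw [← C.star2_centre hc hx hx1 hp] at h1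
    exact (C.D.mem_star2.1 h1).2.1
  · exact fun h => C.I_le_U (C.mem_S.2 ⟨hne, hB, h⟩) hx

theorem mem_block_iff {B : Finset Ω} (hB : B ∈ C.D.blocks) {p : Ω} (hpB : p ∈ B) (hp : p ∉ C.Δ)
    {x : G} (hx : x ∈ C.X) : x • p ∈ B ↔ x ∈ C.U B := by
  refine ⟨fun h => C.mem_U.2 ⟨hx, C.pair_fix hx hB hpB h hp⟩, fun h => ?_⟩
  rw [← (C.mem_U.1 h).2]
  exact smul_mem_smul_finset hpB

theorem plane_mem {c d : Ω} (hc : c ∈ C.Δ) (hd : d ∈ C.Δ) (hcd : c ≠ d) {x z : G} (hx : x ∈ C.I c)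
    (hz : z ∈ C.I d) (hw : x * z ≠ 1) {f : Ω} (hf : f ∈ C.Δ) (hwf : x * z ∈ C.I f) :
    f ∈ C.line c d := by
  rw [mem_line]
  intro B hB
  rw [Des.mem_star2] at hB
  by_cases hne : B = C.Δ
  · exact hne ▸ hf
  refine (C.mem_U_iff hf hwf hw hB.1 hne).1 ((C.U B).mul_mem ?_ ?_)
  · exact C.I_le_U (C.mem_S.2 ⟨hne, hB.1, hB.2.1⟩) hx
  · exact C.I_le_U (C.mem_S.2 ⟨hne, hB.1, hB.2.2⟩) hz

theorem prod_eq {c d : Ω} (hc : c ∈ C.Δ) (hd : d ∈ C.Δ) (hcd : c ≠ d) {x x' z z' : G}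
    (hx : x ∈ C.I c) (hx' : x' ∈ C.I c) (hz : z ∈ C.I d) (hz' : z' ∈ C.I d)
    (h : x * z = x' * z') : x = x' ∧ z = z' := by
  have h1 : x'⁻¹ * x = z' * z⁻¹ := by
    rw [inv_mul_eq_iff_eq_mul, ← mul_assoc, eq_mul_inv_iff_mul_eq, h]
  have h2 := C.I_disjoint hc hd hcd.symm ((C.I c).mul_mem ((C.I c).inv_mem hx') hx)
    (h1 ▸ (C.I d).mul_mem hz' ((C.I d).inv_mem hz))
  rw [inv_mul_eq_one] at h2
  subst h2
  exact ⟨rfl, mul_left_cancel h⟩

theorem plane_decomp {c d : Ω} (hc : c ∈ C.Δ) (hd : d ∈ C.Δ) (hcd : c ≠ d) {f : Ω}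
    (hf : f ∈ C.line c d) {w : G} (hw : w ∈ C.I f) : ∃ x ∈ C.I c, ∃ z ∈ C.I d, w = x * z := by
  classical
  have hfΔ : ∀ f' ∈ C.line c d, f' ∈ C.Δ := fun f' hf' => C.line_subset C.hΔ hc hd hf'
  set P : Finset G := ((C.XF.filter (· ∈ C.I c)) ×ˢ (C.XF.filter (· ∈ C.I d))).image
    fun q => q.1 * q.2
  set Q : Finset G := insert 1 ((C.line c d).biUnion fun f' => (C.XF.filter (· ∈ C.I f')).erase 1)
  have hsub : P ⊆ Q := by
    intro v hv
    obtain ⟨⟨x, z⟩, hxz, rfl⟩ := mem_image.1 hv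
    simp at hxz
    by_cases h1 : x * z = 1
    · simp [Q, h1]
    refine mem_insert_of_mem (mem_biUnion.2 ?_)
    obtain ⟨f', hf', hv'⟩ := C.exists_centre (C.X.mul_mem hxz.1.1 hxz.2.1) h1
    exact ⟨f', C.plane_mem hc hd hcd hxz.1.2 hxz.2.2 h1 hf' hv', by simp [h1, hv', C.I_le f' hv']⟩
  have hP : P.card = C.s * C.s := by
    rw [card_image_of_injOn, card_product, C.card_filter_mem _ (C.I_le c),
      C.card_filter_mem _ (C.I_le d), C.card_I hc, C.card_I hd]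
    intro q hq q' hq' he
    simp at hq hq'
    obtain ⟨e1, e2⟩ := C.prod_eq hc hd hcd hq.1.2 hq'.1.2 hq.2.2 hq'.2.2 he
    exact Prod.ext e1 e2
  have hQ : Q.card ≤ C.s * C.s := by
    refine (card_insert_le _ _).trans ?_
    have h1 : ((C.line c d).biUnion fun f' => (C.XF.filter (· ∈ C.I f')).erase 1).card
        ≤ (C.s + 1) * (C.s - 1) := by
      refine card_biUnion_le.trans ?_
      rw [← C.card_line hcd, ← smul_eq_mul]
      refine sum_le_card_nsmul _ _ _ fun f' hf' => ?_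
      rw [card_erase_of_mem (by simp [(C.I f').one_mem]), C.card_filter_mem _ (C.I_le f'),
        C.card_I (hfΔ f' hf')]
    have h2 : (C.s + 1) * (C.s - 1) + 1 = C.s * C.s := by
      obtain ⟨t, ht⟩ : ∃ t, C.s = t + 1 := ⟨C.s - 1, by have := C.s_pos; omega⟩
      rw [ht, Nat.add_sub_cancel]
      ring
    omega
  have heq := eq_of_subset_of_card_le hsub (by rw [hP]; exact hQ)
  have hwQ : w ∈ Q := by
    by_cases hw1 : w = 1
    · simp [Q, hw1]
    exact mem_insert_of_mem (mem_biUnion.2 ⟨f, hf, by simp [hw1, hw, C.I_le f hw]⟩)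
  rw [← heq] at hwQ
  obtain ⟨⟨x, z⟩, hxz, rfl⟩ := mem_image.1 hwQ
  simp at hxz
  exact ⟨x, hxz.1.2, z, hxz.2.2, rfl⟩

end Cfg

end Cfsg.Agent.Perm.AxialDesign
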