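import Mathlib.RingTheory.LittleWedderburn
import Mathlib.Algebra.Field.TransferInstance
import Mathlib.Algebra.Module.TransferInstance
import Mathlib.Tactic

/-!
The kernel of a partition of a finite abelian group into subgroups with the plane property, of
dimension at least three, is a field acting transitively on each part.
-/

set_option autoImplicit false

namespace Cfsg.Agent.Perm.AxialDesign

/-- A partition of an abelian group into subgroups of equal size in which any two parts span a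
union of parts, not all parts lying in one such span. -/
structure Spread (V ι : Type*) [AddCommGroup V] where
  W : ι → AddSubgroup V
  s : ℕ
  two_le : 2 ≤ s
  card : ∀ i, Nat.card (W i) = s
  cover : ∀ v : V, v ≠ 0 → ∃ i, v ∈ W i
  disj : ∀ i j, i ≠ j → ∀ v : V, v ∈ W i → v ∈ W j → v = 0
  plane : ∀ i j f, i ≠ j → ∀ v : V, v ≠ 0 → v ∈ W f → v ∈ W i ⊔ W j → W f ≤ W i ⊔ W j
  big : ∀ i j, i ≠ j → ∃ f, ¬ W f ≤ W i ⊔ W j
  two : ∃ i j : ι, i ≠ j

namespace Spread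

variable {V ι : Type*} [AddCommGroup V] (S : Spread V ι)

/-- The span of two parts. -/
def P (i j : ι) : AddSubgroup V := S.W i ⊔ S.W j

theorem le_P_left (i j : ι) : S.W i ≤ S.P i j := le_sup_left

theorem le_P_right (i j : ι) : S.W j ≤ S.P i j := le_sup_right

theorem exists_ne_zero (i : ι) : ∃ v ∈ S.W i, v ≠ (0 : V) := by
  by_contra h
  push_neg at h
  have : S.W i = ⊥ := (AddSubgroup.eq_bot_iff_forall _).2 h
  have h1 := S.card i
  rw [this, AddSubgroup.card_bot] at h1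
  have := S.two_le
  omega

theorem eq_of_mem {i j : ι} {v : V} (hv : v ≠ 0) (hi : v ∈ S.W i) (hj : v ∈ S.W j) : i = j :=
  by_contra fun h => hv (S.disj i j h v hi hj)

theorem decomp {i j : ι} {v : V} (hv : v ∈ S.P i j) :
    ∃ a ∈ S.W i, ∃ b ∈ S.W j, a + b = v := AddSubgroup.mem_sup.1 hv

theorem decomp_unique {i j : ι} (hij : i ≠ j) {a a' b b' : V} (ha : a ∈ S.W i) (ha' : a' ∈ S.W i)
    (hb : b ∈ S.W j) (hb' : b' ∈ S.W j) (h : a + b = a' + b') : a = a' ∧ b = b' := by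
  have h1 : a - a' = b' - b := by
    rw [sub_eq_sub_iff_add_eq_add, h, add_comm]
  have h2 := S.disj i j hij _ ((S.W i).sub_mem ha ha') (h1 ▸ (S.W j).sub_mem hb' hb)
  rw [h2] at h1
  exact ⟨sub_eq_zero.1 h2, (sub_eq_zero.1 h1.symm).symm⟩

theorem plane_le {i j f : ι} (hij : i ≠ j) {v : V} (hv : v ≠ 0) (hvf : v ∈ S.W f)
    (hvP : v ∈ S.P i j) : S.W f ≤ S.P i j := S.plane i j f hij v hv hvf hvP

theorem P_eq_left {a b g : ι} (hab : a ≠ b) (hga : g ≠ a) (hg : S.W g ≤ S.P a b) :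
    S.P a g = S.P a b := by
  refine le_antisymm (sup_le (S.le_P_left a b) hg) (sup_le (S.le_P_left a g) ?_)
  obtain ⟨w, hw, hw0⟩ := S.exists_ne_zero g
  obtain ⟨α, hα, β, hβ, hsum⟩ := S.decomp (hg hw)
  have hβ0 : β ≠ 0 := fun h => by
    rw [h, add_zero] at hsum
    exact hga (S.eq_of_mem hw0 hw (hsum ▸ hα))
  refine S.plane_le hga.symm hβ0 hβ ?_
  have : β = w - α := by rw [← hsum]; abel
  rw [this]
  exact (S.P a g).sub_mem (S.le_P_right a g hw) (S.le_P_left a g hα)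

theorem P_comm (a b : ι) : S.P a b = S.P b a := sup_comm ..

theorem P_eq {a b g h : ι} (hab : a ≠ b) (hgh : g ≠ h) (hg : S.W g ≤ S.P a b)
    (hh : S.W h ≤ S.P a b) : S.P g h = S.P a b := by
  by_cases hga : g = a
  · subst hga
    exact S.P_eq_left hab (Ne.symm hgh) hh
  · have e := S.P_eq_left hab hga hg
    rw [← e, P_comm S a g, S.P_eq_left hga hgh.symm (by rw [P_comm S g a, e]; exact hh)]

/-- The part containing a vector, with a default for zero. -/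
noncomputable def idx [Nonempty ι] (v : V) : ι :=
  Classical.epsilon fun i => v ∈ S.W i

theorem mem_idx [Nonempty ι] {v : V} (hv : v ≠ 0) : v ∈ S.W (S.idx v) :=
  Classical.epsilon_spec (S.cover v hv)

theorem idx_eq [Nonempty ι] {v : V} (hv : v ≠ 0) {i : ι} (h : v ∈ S.W i) : S.idx v = i :=
  S.eq_of_mem hv (S.mem_idx hv) h

/-- `w` is the image of `z` under the dilatation taking `x` to `y`. -/
def Rel (x y z w : V) : Prop :=
  (∃ i, z ∈ S.W i ∧ w ∈ S.W i) ∧ ∃ j, z - x ∈ S.W j ∧ w - y ∈ S.W j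

theorem rel_exists {i : ι} {x y z : V} (hx : x ∈ S.W i) (hy : y ∈ S.W i) (hx0 : x ≠ 0)
    (hz : z ∉ S.W i) : ∃ w, S.Rel x y z w := by
  have hz0 : z ≠ 0 := fun h => hz (h ▸ (S.W i).zero_mem)
  obtain ⟨g, hg⟩ := S.cover z hz0
  have hzx : z - x ≠ 0 := sub_ne_zero.2 fun h => hz (h ▸ hx)
  obtain ⟨j, hj⟩ := S.cover _ hzx
  have hgj : g ≠ j := fun h => by
    subst h
    have hxg : x ∈ S.W g := by simpa using (S.W g).sub_mem hg hj
    exact hz (S.eq_of_mem hx0 hx hxg ▸ hg)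
  have hxP : x ∈ S.P g j := by
    simpa using (S.P g j).sub_mem (S.le_P_left g j hg) (S.le_P_right g j hj)
  obtain ⟨a, ha, b, hb, hab⟩ := S.decomp (S.plane_le hgj hx0 hx hxP hy)
  refine ⟨a, ⟨g, hg, ha⟩, j, hj, ?_⟩
  have : a - y = -b := by rw [← hab]; abel
  rw [this]
  exact (S.W j).neg_mem hb

theorem rel_unique {i : ι} {x y z w w' : V} (hx : x ∈ S.W i) (hx0 : x ≠ 0)
    (hz : z ∉ S.W i) (h : S.Rel x y z w) (h' : S.Rel x y z w') : w = w' := by
  have hz0 : z ≠ 0 := fun e => hz (e ▸ (S.W i).zero_mem)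
  have hzx : z - x ≠ 0 := sub_ne_zero.2 fun e => hz (e ▸ hx)
  obtain ⟨⟨g, hg, hw⟩, j, hj, hwy⟩ := h
  obtain ⟨⟨g', hg', hw'⟩, j', hj', hwy'⟩ := h'
  obtain rfl := S.eq_of_mem hz0 hg hg'
  obtain rfl := S.eq_of_mem hzx hj hj'
  refine sub_eq_zero.1 (S.disj g j ?_ _ ((S.W g).sub_mem hw hw') ?_)
  · intro e
    subst e
    exact hz (S.eq_of_mem hx0 hx (by simpa using (S.W g).sub_mem hg hj) ▸ hg)
  · have : w - w' = (w - y) - (w' - y) := by abel
    rw [this]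
    exact (S.W j).sub_mem hwy hwy'

/-- Desargues in three dimensions. -/
theorem desargues {i g₁ : ι} {x y z₁ z₂ w₁ w₂ : V} (hx : x ∈ S.W i) (hx0 : x ≠ 0)
    (h1i : z₁ ∉ S.W i) (hg₁ : z₁ ∈ S.W g₁) (h2 : z₂ ∉ S.P i g₁)
    (r1 : S.Rel x y z₁ w₁) (r2 : S.Rel x y z₂ w₂) :
    ∃ g, z₁ - z₂ ∈ S.W g ∧ w₁ - w₂ ∈ S.W g := by
  have h2i : z₂ ∉ S.W i := fun h => h2 (S.le_P_left i g₁ h)
  have hz1 : z₁ ≠ 0 := fun e => h1i (e ▸ (S.W i).zero_mem)
  have hz2 : z₂ ≠ 0 := fun e => h2i (e ▸ (S.W i).zero_mem)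
  have hd : z₁ - z₂ ≠ 0 := sub_ne_zero.2 fun e => h2 (e ▸ S.le_P_right i g₁ hg₁)
  obtain ⟨⟨a₁, ha₁, hw₁⟩, b₁, hb₁, hwy₁⟩ := r1
  obtain ⟨⟨a₂, ha₂, hw₂⟩, b₂, hb₂, hwy₂⟩ := r2
  obtain rfl := S.eq_of_mem hz1 hg₁ ha₁
  have hig : i ≠ g₁ := fun e => h1i (e ▸ hg₁)
  have ha12 : g₁ ≠ a₂ := fun e => h2 (S.le_P_right i g₁ (e ▸ ha₂))
  have hb12 : b₁ ≠ b₂ := fun e => by
    subst e
    have hzz : z₁ - z₂ ∈ S.W b₁ := by
      have : z₁ - z₂ = (z₁ - x) - (z₂ - x) := by abel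
      rw [this]; exact (S.W b₁).sub_mem hb₁ hb₂
    -- the plane of `x` and `z₁` contains the part of `z₁ - x`, hence `z₂ - x`
    have hb1P : S.W b₁ ≤ S.P i g₁ := S.plane_le hig (sub_ne_zero.2 (show z₁ ≠ x from fun e => h1i (by rw [e]; exact hx))) hb₁
      ((S.P i g₁).sub_mem (S.le_P_right i g₁ hg₁) (S.le_P_left i g₁ hx))
    exact h2 (by simpa using (S.P i g₁).add_mem (hb1P hb₂) (S.le_P_left i g₁ hx))
  obtain ⟨g, hg⟩ := S.cover _ hd
  refine ⟨g, hg, ?_⟩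
  by_contra hbad
  have hu0 : w₁ - w₂ ≠ 0 := fun e => hbad (e ▸ (S.W g).zero_mem)
  obtain ⟨h, hh⟩ := S.cover _ hu0
  have hgh : g ≠ h := fun e => hbad (e ▸ hh)
  have g1 : S.W g ≤ S.P g₁ a₂ := S.plane_le ha12 hd hg
    ((S.P _ _).sub_mem (S.le_P_left g₁ a₂ hg₁) (S.le_P_right g₁ a₂ ha₂))
  have h1 : S.W h ≤ S.P g₁ a₂ := S.plane_le ha12 hu0 hh
    ((S.P _ _).sub_mem (S.le_P_left g₁ a₂ hw₁) (S.le_P_right g₁ a₂ hw₂))
  have g2 : S.W g ≤ S.P b₁ b₂ := S.plane_le hb12 hd hg (by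
    have : z₁ - z₂ = (z₁ - x) - (z₂ - x) := by abel
    rw [this]; exact (S.P _ _).sub_mem (S.le_P_left b₁ b₂ hb₁) (S.le_P_right b₁ b₂ hb₂))
  have h2' : S.W h ≤ S.P b₁ b₂ := S.plane_le hb12 hu0 hh (by
    have : w₁ - w₂ = (w₁ - y) - (w₂ - y) := by abel
    rw [this]; exact (S.P _ _).sub_mem (S.le_P_left b₁ b₂ hwy₁) (S.le_P_right b₁ b₂ hwy₂))
  have e : S.P g₁ a₂ = S.P b₁ b₂ := (S.P_eq ha12 hgh g1 h1).symm.trans (S.P_eq hb12 hgh g2 h2')
  have hxP : x ∈ S.P g₁ a₂ := by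
    have : x = z₁ - (z₁ - x) := by abel
    rw [this]; exact (S.P _ _).sub_mem (S.le_P_left g₁ a₂ hg₁) (e ▸ S.le_P_left b₁ b₂ hb₁)
  have hle := S.P_eq ha12 hig (S.plane_le ha12 hx0 hx hxP) (S.le_P_left g₁ a₂)
  exact h2 (hle ▸ S.le_P_right g₁ a₂ ha₂)

theorem inter_planes {i j : ι} (hij : i ≠ j) {f : ι} (hf : ¬ S.W f ≤ S.P i j) {v : V}
    (hv : v ∈ S.P i j) (hvi : v ∉ S.W i) : v ∉ S.P i f := by
  intro h
  have hv0 : v ≠ 0 := fun e => hvi (e ▸ (S.W i).zero_mem)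
  obtain ⟨g, hg⟩ := S.cover v hv0
  have hgi : i ≠ g := fun e => hvi (e ▸ hg)
  have hfi : i ≠ f := fun e => hf (e ▸ S.le_P_left i j)
  have e1 := S.P_eq hij hgi (S.le_P_left i j) (S.plane_le hij hv0 hg hv)
  have e2 := S.P_eq hfi hgi (S.le_P_left i f) (S.plane_le hfi hv0 hg h)
  exact hf (e1 ▸ e2.symm ▸ S.le_P_right i f)

theorem rel_symm {x y z w : V} {i : ι} (hx : x ∈ S.W i) (hy : y ∈ S.W i) (h : S.Rel x y z w) :
    S.Rel z w x y := by
  obtain ⟨-, j, hj, hwy⟩ := h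
  refine ⟨⟨i, hx, hy⟩, j, ?_, ?_⟩
  · simpa using (S.W j).neg_mem hj
  · simpa using (S.W j).neg_mem hwy

/-- Changing the base point does not change the image. -/
theorem rel_change {i g₁ : ι} {x y z₁ w₁ z w : V} (hx : x ∈ S.W i) (hx0 : x ≠ 0)
    (h1i : z₁ ∉ S.W i) (hg₁ : z₁ ∈ S.W g₁) (h2 : z ∉ S.P i g₁)
    (r1 : S.Rel x y z₁ w₁) (r2 : S.Rel x y z w) : S.Rel z₁ w₁ z w := by
  obtain ⟨g, hg, hg'⟩ := S.desargues hx hx0 h1i hg₁ h2 r1 r2
  refine ⟨r2.1, g, ?_, ?_⟩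
  · simpa using (S.W g).neg_mem hg
  · simpa using (S.W g).neg_mem hg'

theorem exists_other (S : Spread V ι) (i : ι) : ∃ j, j ≠ i := by
  obtain ⟨a, b, hab⟩ := S.two
  by_cases h : a = i
  · exact ⟨b, fun e => hab (h.trans e.symm)⟩
  · exact ⟨a, h⟩

theorem exists_off (i j : ι) (hij : i ≠ j) :
    ∃ f, ∃ v ∈ S.W f, v ≠ 0 ∧ ¬ S.W f ≤ S.P i j ∧ v ∉ S.P i j := by
  obtain ⟨f, hf⟩ := S.big i j hij
  obtain ⟨v, hv, hv0⟩ := S.exists_ne_zero f
  exact ⟨f, v, hv, hv0, hf, fun h => hf (S.plane_le hij hv0 hv h)⟩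

/-- A map that respects parts and differences of vectors in distinct parts is additive. -/
theorem additive {Φ : V → V} (h0 : Φ 0 = 0) (hmem : ∀ j, ∀ v ∈ S.W j, Φ v ∈ S.W j)
    (hdiff : ∀ z w, z ≠ 0 → w ≠ 0 → (∀ j, z ∈ S.W j → w ∉ S.W j) →
      ∃ g, z - w ∈ S.W g ∧ Φ z - Φ w ∈ S.W g) :
    ∀ z w, Φ (z + w) = Φ z + Φ w := by
  have indep : ∀ z w, ∀ a b, a ≠ b → z ∈ S.W a → w ∈ S.W b → z ≠ 0 → w ≠ 0 →
      Φ (z + w) = Φ z + Φ w := by
    intro z w a b hab ha hb hz hw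
    have hu0 : z + w ≠ 0 := fun e => hz (S.disj a b hab z ha (by
      rw [eq_neg_of_add_eq_zero_left e]; exact (S.W b).neg_mem hb))
    obtain ⟨g, hg, hg'⟩ := hdiff (z + w) z hu0 hz fun j hj hj' => by
      have hjw : w ∈ S.W j := by simpa using (S.W j).sub_mem hj hj'
      exact hab ((S.eq_of_mem hz ha hj').trans (S.eq_of_mem hw hjw hb))
    rw [add_sub_cancel_left] at hg
    obtain rfl := S.eq_of_mem hw hg hb
    obtain ⟨g', hg1, hg1'⟩ := hdiff (z + w) w hu0 hw fun j hj hj' => by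
      have hjz : z ∈ S.W j := by simpa using (S.W j).sub_mem hj hj'
      exact hab ((S.eq_of_mem hz ha hjz).trans (S.eq_of_mem hw hj' hb))
    rw [add_sub_cancel_right] at hg1
    obtain rfl := S.eq_of_mem hz hg1 ha
    have h := (S.decomp_unique hab (hmem _ z ha) hg1' hg' (hmem _ w hb)
      (by abel)).2
    rw [← h]; abel
  intro z w
  by_cases hz : z = 0
  · simp [hz, h0]
  by_cases hw : w = 0
  · simp [hw, h0]
  obtain ⟨a, ha⟩ := S.cover z hz
  obtain ⟨b, hb⟩ := S.cover w hw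
  by_cases hab : a = b
  · subst hab
    obtain ⟨f, hf⟩ := S.exists_other a
    obtain ⟨v, hv, hv0⟩ := S.exists_ne_zero f
    have hwv : w + v ∉ S.W a := fun h =>
      hv0 (S.disj f a hf v hv (by simpa using (S.W a).sub_mem h hb))
    obtain ⟨c, hc⟩ := S.cover (w + v) fun e => hwv (e ▸ (S.W a).zero_mem)
    have e1 := indep z (w + v) a c (fun e => hwv (e ▸ hc)) ha hc hz
      (fun e => hwv (e ▸ (S.W a).zero_mem))
    rw [indep w v a f hf.symm hb hv hw hv0, ← add_assoc z w v] at e1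
    by_cases hzw : z + w = 0
    · rw [hzw, zero_add] at e1
      rw [hzw, h0]
      exact add_right_cancel (b := Φ v) (by rw [zero_add]; exact e1.trans (add_assoc ..).symm)
    · rw [indep (z + w) v a f hf.symm ((S.W a).add_mem ha hb) hv hzw hv0, ← add_assoc] at e1
      exact add_right_cancel e1
  · exact indep z w a b hab ha hb hz hw

theorem exists_dilatation {i : ι} {x y : V} (hx : x ∈ S.W i) (hy : y ∈ S.W i) (hx0 : x ≠ 0) :
    ∃ f : V →+ V, (∀ j, ∀ v ∈ S.W j, f v ∈ S.W j) ∧ f x = y := by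
  classical
  choose φ hφ using fun z (hz : z ∉ S.W i) => S.rel_exists hx hy hx0 hz
  obtain ⟨g₁, hg₁i⟩ := S.exists_other i
  obtain ⟨z₁, hz₁, hz₁0⟩ := S.exists_ne_zero g₁
  have hz₁i : z₁ ∉ S.W i := fun h => hg₁i (S.eq_of_mem hz₁0 hz₁ h)
  set w₁ := φ z₁ hz₁i
  have hw₁ : w₁ ∈ S.W g₁ := by
    obtain ⟨j, hj, hj'⟩ := (hφ z₁ hz₁i).1
    exact S.eq_of_mem hz₁0 hj hz₁ ▸ hj'
  choose ψ hψ using fun z (hz : z ∉ S.W g₁) => S.rel_exists hz₁ hw₁ hz₁0 hz
  have hig : ∀ z, z ≠ 0 → z ∈ S.W i → z ∉ S.W g₁ := fun z hz h h' =>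
    hg₁i (S.eq_of_mem hz h' h)
  let Φ : V → V := fun z =>
    if hzi : z ∈ S.W i then (if hz : z = 0 then 0 else ψ z (hig z hz hzi)) else φ z hzi
  have Φout : ∀ z (h : z ∉ S.W i), Φ z = φ z h := fun z h => dif_neg h
  have Φin : ∀ z (h : z ∈ S.W i) (hz : z ≠ 0), Φ z = ψ z (hig z hz h) := fun z h hz =>
    (dif_pos h).trans (dif_neg hz)
  have Φ0 : Φ 0 = 0 := (dif_pos (S.W i).zero_mem).trans (dif_pos rfl)
  have Φx : Φ x = y := by
    rw [Φin x hx hx0]
    exact S.rel_unique hz₁ hz₁0 (hig x hx0 hx) (hψ x _) (S.rel_symm hx hy (hφ z₁ hz₁i))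
  have hmem : ∀ j, ∀ v ∈ S.W j, Φ v ∈ S.W j := by
    intro j v hv
    by_cases hv0 : v = 0
    · rw [hv0, Φ0]; exact (S.W j).zero_mem
    by_cases hvi : v ∈ S.W i
    · rw [Φin v hvi hv0]
      obtain ⟨k, hk, hk'⟩ := (hψ v (hig v hv0 hvi)).1
      exact S.eq_of_mem hv0 hk hv ▸ hk'
    · rw [Φout v hvi]
      obtain ⟨k, hk, hk'⟩ := (hφ v hvi).1
      exact S.eq_of_mem hv0 hk hv ▸ hk'
  have half : ∀ z w, z ≠ 0 → w ∉ S.W i → (∀ j, z ∈ S.W j → w ∉ S.W j) →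
      ∃ g, z - w ∈ S.W g ∧ Φ z - Φ w ∈ S.W g := by
    intro z w hz hwi hzw
    rw [Φout w hwi]
    by_cases hzi : z ∈ S.W i
    · rw [Φin z hzi hz]
      by_cases hwP : w ∈ S.P i g₁
      · obtain ⟨f, v, hv, hv0, hf, hvP⟩ := S.exists_off i g₁ hg₁i.symm
        have hvi : v ∉ S.W i := fun h => hvP (S.le_P_left i g₁ h)
        have r12 := S.rel_change hx hx0 hz₁i hz₁ hvP (hφ z₁ hz₁i) (hφ v hvi)
        have hzP : z ∉ S.P g₁ f := S.inter_planes hg₁i (by rwa [P_comm]) (S.le_P_right g₁ i hzi)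
          (hig z hz hzi)
        have rz := S.rel_change hz₁ hz₁0 (fun h => hvP (S.le_P_right i g₁ h)) hv hzP r12
          (hψ z (hig z hz hzi))
        have rw' := S.rel_change hx hx0 hvi hv (S.inter_planes hg₁i.symm hf hwP hwi) (hφ v hvi)
          (hφ w hwi)
        have hwf : w ∉ S.P f i := by rw [P_comm]; exact S.inter_planes hg₁i.symm hf hwP hwi
        exact S.desargues hv hv0 (fun h => hvi (S.eq_of_mem hz hzi h ▸ hv)) hzi hwf rz rw'
      · have rw' := S.rel_change hx hx0 hz₁i hz₁ hwP (hφ z₁ hz₁i) (hφ w hwi)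
        exact S.desargues hz₁ hz₁0 (hig z hz hzi) hzi (by rwa [P_comm]) (hψ z _) rw'
    · rw [Φout z hzi]
      obtain ⟨g, hg⟩ := S.cover z hz
      have hgi : i ≠ g := fun e => hzi (e ▸ hg)
      by_cases hwP : w ∈ S.P i g
      · obtain ⟨f, v, hv, hv0, hf, hvP⟩ := S.exists_off i g hgi
        have hvi : v ∉ S.W i := fun h => hvP (S.le_P_left i g h)
        have hzP : z ∉ S.P i f := S.inter_planes hgi hf (S.le_P_right i g hg) hzi
        have rz := S.rel_change hx hx0 hvi hv hzP (hφ v hvi) (hφ z hzi)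
        have rw' := S.rel_change hx hx0 hvi hv (S.inter_planes hgi hf hwP hwi) (hφ v hvi) (hφ w hwi)
        have hwf : w ∉ S.P f g := by
          rw [P_comm]
          exact S.inter_planes hgi.symm (by rwa [P_comm]) (by rwa [P_comm]) (hzw g hg)
        exact S.desargues hv hv0 (fun h => hvP (S.le_P_right i g (S.eq_of_mem hz h hg ▸ hv))) hg hwf
          rz rw'
      · exact S.desargues hx hx0 hzi hg hwP (hφ z hzi) (hφ w hwi)
  have hdiff : ∀ z w, z ≠ 0 → w ≠ 0 → (∀ j, z ∈ S.W j → w ∉ S.W j) →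
      ∃ g, z - w ∈ S.W g ∧ Φ z - Φ w ∈ S.W g := by
    intro z w hz hw hzw
    by_cases hwi : w ∈ S.W i
    · obtain ⟨g, hg, hg'⟩ := half w z hw (fun h => hzw i h hwi) fun j h h' => hzw j h' h
      exact ⟨g, by simpa using (S.W g).neg_mem hg, by simpa using (S.W g).neg_mem hg'⟩
    · exact half z w hz hwi hzw
  exact ⟨AddMonoidHom.mk' Φ (S.additive Φ0 hmem hdiff), hmem, Φx⟩

/-- The endomorphisms preserving every part. -/
def kernelRing : Subring (AddMonoid.End V) where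
  carrier := {f | ∀ j, ∀ v ∈ S.W j, f v ∈ S.W j}
  mul_mem' := fun {f g} hf hg j v hv => hf j _ (hg j v hv)
  one_mem' := fun _ _ hv => hv
  add_mem' := fun {f g} hf hg j v hv => (S.W j).add_mem (hf j v hv) (hg j v hv)
  zero_mem' := fun j _ _ => (S.W j).zero_mem
  neg_mem' := fun {f} hf j v hv => (S.W j).neg_mem (hf j v hv)

theorem kernel_injective {f : AddMonoid.End V} (hf : f ∈ S.kernelRing) (hne : f ≠ 0) {v : V}
    (h : f v = 0) : v = 0 := by
  by_contra hv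
  apply hne
  obtain ⟨a, ha⟩ := S.cover v hv
  have hout : ∀ w, w ∉ S.W a → f w = 0 := by
    intro w hw
    have hw0 : w ≠ 0 := fun e => hw (e ▸ (S.W a).zero_mem)
    have hvw : v + w ≠ 0 := fun e => hw (by
      rw [eq_neg_of_add_eq_zero_right e]; exact (S.W a).neg_mem ha)
    obtain ⟨b, hb⟩ := S.cover w hw0
    obtain ⟨c, hc⟩ := S.cover _ hvw
    refine S.disj b c (fun e => ?_) _ (hf b w hb) ?_
    · subst e
      have hvb : v ∈ S.W b := by simpa using (S.W b).sub_mem hc hb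
      exact hw (S.eq_of_mem hv ha hvb ▸ hb)
    · have := hf c _ hc
      rwa [map_add, h, zero_add] at this
  refine AddMonoidHom.ext fun u => ?_
  show f u = 0
  by_cases hu : u ∈ S.W a
  · obtain ⟨f', hf'⟩ := S.exists_other a
    obtain ⟨t, ht, ht0⟩ := S.exists_ne_zero f'
    have hta : t ∉ S.W a := fun e => hf' (S.eq_of_mem ht0 ht e)
    have hut : u + t ∉ S.W a := fun e => hta (by simpa using (S.W a).sub_mem e hu)
    have := hout _ hut
    rwa [map_add, hout t hta, add_zero] at this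
  · exact hout u hu

variable [Finite V]

/-- The kernel is a field with as many elements as a part, preserving every part. -/
theorem exists_field : ∃ (F : Type) (_ : Field F) (_ : Fintype F) (_ : Module F V),
    Fintype.card F = S.s ∧ ∀ (c : F) (j : ι), ∀ v ∈ S.W j, c • v ∈ S.W j := by
  classical
  obtain ⟨i, -, -⟩ := S.two
  obtain ⟨x, hx, hx0⟩ := S.exists_ne_zero i
  let ev : S.kernelRing → S.W i := fun f => ⟨f.1 x, f.2 i x hx⟩
  have hev : Function.Bijective ev := by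
    refine ⟨fun f g h => ?_, fun w => ?_⟩
    · have h' : f.1 x = g.1 x := congrArg Subtype.val h
      by_contra hne
      refine hx0 (S.kernel_injective (S.kernelRing.sub_mem f.2 g.2)
        (sub_ne_zero.2 fun e => hne (Subtype.ext e)) ?_)
      show f.1 x - g.1 x = 0
      rw [h', sub_self]
    · obtain ⟨f, hf, hfx⟩ := S.exists_dilatation hx w.2 hx0
      exact ⟨⟨f, hf⟩, Subtype.ext hfx⟩
  haveI : Finite S.kernelRing := Finite.of_injective ev hev.1
  have hcard : Nat.card S.kernelRing = S.s :=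
    (Nat.card_congr (Equiv.ofBijective ev hev)).trans (S.card i)
  haveI : Nontrivial S.kernelRing := Finite.one_lt_card_iff_nontrivial.1
    (hcard.symm ▸ S.two_le)
  haveI : NoZeroDivisors S.kernelRing := ⟨fun {f g} h => by
    by_contra hne
    push_neg at hne
    obtain ⟨hf, hg⟩ := hne
    have h1 : f.1 (g.1 x) = 0 := DFunLike.congr_fun (congrArg Subtype.val h) x
    exact hx0 (S.kernel_injective g.2 (fun e => hg (Subtype.ext e))
      (S.kernel_injective f.2 (fun e => hf (Subtype.ext e)) h1))⟩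
  haveI : IsDomain S.kernelRing := NoZeroDivisors.to_isDomain _
  let e : {_i : Fin (Nat.card S.kernelRing) // True} ≃ S.kernelRing :=
    (Equiv.subtypeUnivEquiv fun _ => trivial).trans (Finite.equivFin _).symm
  letI := e.ring
  have hdom : IsField {_i : Fin (Nat.card S.kernelRing) // True} :=
    MulEquiv.isField (Finite.isDomain_to_isField S.kernelRing) e.ringEquiv.toMulEquiv
  letI := hdom.toField
  refine ⟨{_i : Fin (Nat.card S.kernelRing) // True}, inferInstance, inferInstance,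
    Module.compHom V (S.kernelRing.subtype.comp e.ringEquiv.toRingHom), ?_, fun c j v hv => ?_⟩
  · rw [← Nat.card_eq_fintype_card, Nat.card_congr e, hcard]
  · exact (e c).2 j v hv

end Spread

end Cfsg.Agent.Perm.AxialDesign
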