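import Mathlib.LinearAlgebra.Projectivization.Basic
import Mathlib.FieldTheory.Finiteness
import Cfsg.Agent.Lib.Perm.AxialDesign.Lines
import Cfsg.Agent.Lib.Perm.AxialDesign.Spread
import Cfsg.Agent.Lib.Lie.OstromWagner.Main

/-!
The design is the design of hyperplanes of a projective space.
-/

set_option autoImplicit false

open scoped Pointwise LinearAlgebra.Projectivization
open Finset

namespace Cfsg.Agent.Perm.AxialDesign

variable {G Ω : Type*} [Group G] [Finite G] [DecidableEq G] [Fintype Ω] [DecidableEq Ω] [MulAction G Ω]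

/-- Coordinates in which all blocks are hyperplanes. -/
def HasCoord (C : Cfg G Ω) : Prop :=
  ∃ (F : Type) (_ : Field F) (_ : Fintype F) (m : ℕ) (φ : Ω ≃ ℙ F (Fin (m + 1) → F)), 2 ≤ m ∧
    ∀ B ∈ C.D.blocks, ∃ W : Submodule F (Fin (m + 1) → F), Module.finrank F W = m ∧
      ∀ p : Ω, p ∈ B ↔ (φ p).submodule ≤ W

theorem mk_le_iff {F V : Type*} [DivisionRing F] [AddCommGroup V] [Module F V] {v : V} (hv : v ≠ 0)
    (W : Submodule F V) : (Projectivization.mk F v hv).submodule ≤ W ↔ v ∈ W := by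
  rw [Projectivization.submodule_mk, Submodule.span_singleton_le_iff_mem]

namespace Cfg

variable (C : Cfg G Ω)

theorem hasCoord_of_one (hl : C.D.l = 1) : HasCoord C := by
  classical
  let L := {B : Finset Ω // B ∈ C.D.blocks}
  letI : Membership Ω L := ⟨fun l p => p ∈ l.1⟩
  have hpt : ∀ {l₁ l₂ : L}, l₁ ≠ l₂ → ∃ p : Ω, p ∈ l₁ ∧ p ∈ l₂ := by
    intro l₁ l₂ h
    obtain ⟨p, hp⟩ := card_pos.1 (show 0 < (l₁.1 ∩ l₂.1).card by
      rw [C.D.inter l₁.2 l₂.2 fun e => h (Subtype.ext e), hl]; exact one_pos)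
    exact ⟨p, (mem_inter.1 hp).1, (mem_inter.1 hp).2⟩
  have hln : ∀ {p q : Ω}, p ≠ q → ∃ l : L, p ∈ l ∧ q ∈ l := by
    intro p q h
    obtain ⟨B, hB⟩ := card_pos.1 (show 0 < (C.D.star2 p q).card by
      rw [C.D.card_star2 h, hl]; exact one_pos)
    rw [Des.mem_star2] at hB
    exact ⟨⟨B, hB.1⟩, hB.2.1, hB.2.2⟩
  have huniq : ∀ {p q : Ω} {l₁ l₂ : L}, p ∈ l₁ → q ∈ l₁ → p ∈ l₂ → q ∈ l₂ → p = q ∨ l₁ = l₂ := by
    intro p q l₁ l₂ h1 h2 h3 h4
    by_contra hne
    push_neg at hne
    have h5 : ({p, q} : Finset Ω) ⊆ l₁.1 ∩ l₂.1 := by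
      intro t ht
      simp only [mem_insert, mem_singleton] at ht
      rcases ht with rfl | rfl
      · exact mem_inter.2 ⟨h1, h3⟩
      · exact mem_inter.2 ⟨h2, h4⟩
    have := card_le_card h5
    rw [card_pair hne.1, C.D.inter l₁.2 l₂.2 fun e => hne.2 (Subtype.ext e), hl] at this
    omega
  have hout : ∀ l : L, ∃ p : Ω, p ∉ l := fun l => by
    by_contra h
    push_neg at h
    have h2 := C.D.card_block _ l.2
    rw [show l.1 = univ from eq_univ_iff_forall.2 h, card_univ] at h2
    exact absurd C.D.k_lt (by omega)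
  have hmiss : ∀ p : Ω, ∃ l : L, p ∉ l := fun p => by
    by_contra h
    push_neg at h
    have : C.D.blocks ⊆ C.D.star p := fun B hB => C.D.mem_star.2 ⟨hB, h ⟨B, hB⟩⟩
    have h2 := card_le_card this
    rw [C.D.card_blocks, C.D.card_star] at h2
    exact absurd C.D.k_lt (by omega)
  letI : Configuration.ProjectivePlane Ω L :=
    { exists_point := hout
      exists_line := hmiss
      eq_or_eq := fun {_ _ _ _} => huniq
      mkPoint := fun h => (hpt h).choose
      mkPoint_ax := fun h => (hpt h).choose_spec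
      mkLine := fun h => (hln h).choose
      mkLine_ax := fun h => (hln h).choose_spec
      exists_config := by
        have hk := C.D.two_le
        obtain ⟨d, hd, c, hc, hdc⟩ := one_lt_card.1 (show 1 < C.Δ.card by
          rw [C.D.card_block _ C.hΔ]; omega)
        obtain ⟨o, ho⟩ := C.exists_outside
        obtain ⟨l₃, hd3, ho3⟩ := hln (C.ne_of_mem_not_mem hd ho)
        have hk3 : 3 ≤ C.D.k := by
          have h1 := C.k_val; have h2 := C.s_two; rw [hl] at h1; omega
        obtain ⟨A, hA, hA'⟩ := exists_mem_notMem_of_card_lt_card (s := C.D.star2 c o ∪ C.D.star2 d o)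
          (t := C.D.star o) (by
            refine (card_union_le _ _).trans_lt ?_
            rw [C.D.card_star2 (C.ne_of_mem_not_mem hc ho), C.D.card_star2 (C.ne_of_mem_not_mem hd ho),
              hl, C.D.card_star]
            omega)
        rw [Des.mem_star] at hA
        rw [mem_union, Des.mem_star2, Des.mem_star2] at hA'
        push_neg at hA'
        have hcA : c ∉ A := fun h => hA'.1 hA.1 h hA.2
        have hdA : d ∉ A := fun h => hA'.2 hA.1 h hA.2
        have hl3Δ : l₃.1 ≠ C.Δ := fun h => ho (by rw [← h]; exact ho3)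
        have hAΔ : A ≠ C.Δ := fun h => hcA (h ▸ hc)
        have hA3 : A ≠ l₃.1 := fun h => hdA (h ▸ hd3)
        obtain ⟨e, he, he'⟩ := exists_mem_notMem_of_card_lt_card (s := A ∩ C.Δ ∪ A ∩ l₃.1) (t := A) (by
          refine (card_union_le _ _).trans_lt ?_
          rw [C.D.inter hA.1 C.hΔ hAΔ, C.D.inter hA.1 l₃.2 hA3, hl, C.D.card_block _ hA.1]
          omega)
        rw [mem_union, mem_inter, mem_inter] at he'
        push_neg at he'
        have hc3 : c ∉ l₃ := fun h => by
          rcases huniq (l₂ := (⟨C.Δ, C.hΔ⟩ : L)) h hd3 hc hd with e' | e'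
          · exact hdc e'.symm
          · exact hl3Δ (congrArg Subtype.val e')
        exact ⟨e, d, c, ⟨A, hA.1⟩, ⟨C.Δ, C.hΔ⟩, l₃, he'.1 he, he'.2 he, hdA, hd, hd3, hcA, hc, hc3⟩ }
  obtain ⟨F, iF, iFt, φ, hφ, -⟩ := Cfsg.Agent.Lie.OW.desarguesian (P := Ω) (L := L)
    (fun p₁ p₂ q₁ q₂ hp hq => by
      obtain ⟨g, hg1, hg2⟩ := C.trans2 p₁ p₂ q₁ q₂ hp hq
      refine ⟨MulAction.toPerm g,
        ⟨fun l => ⟨g • l.1, C.inv g _ l.2⟩, fun l => ⟨g⁻¹ • l.1, C.inv g⁻¹ _ l.2⟩,
          fun l => Subtype.ext (inv_smul_smul g l.1), fun l => Subtype.ext (smul_inv_smul g l.1)⟩,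
        fun p l => ?_, hg1, hg2⟩
      exact smul_mem_smul_finset_iff g)
  exact ⟨F, iF, iFt, 2, φ, le_rfl, fun B hB => hφ ⟨B, hB⟩⟩

/-- `X` written additively. -/
@[reducible] noncomputable def commGroupX : CommGroup C.X :=
  { (inferInstance : Group C.X) with
    mul_comm := fun x z => Subtype.ext (C.X_comm _ x.2 _ z.2) }

theorem hasCoord_of_two (hl : 2 ≤ C.D.l) : HasCoord C := by
  classical
  letI := C.commGroupX
  let V := Additive C.X
  let val : V → G := fun v => ((Additive.toMul v : C.X) : G)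
  have val0 : ∀ v : V, val v = 1 ↔ v = 0 := fun v =>
    ⟨fun h => Additive.toMul.injective (Subtype.ext h), fun h => by subst h; rfl⟩
  have valX : ∀ v : V, val v ∈ C.X := fun v => (Additive.toMul v : C.X).2
  let ι := {c : Ω // c ∈ C.Δ}
  let W : ι → AddSubgroup V := fun c => ((C.I c.1).subgroupOf C.X).toAddSubgroup
  have memW : ∀ (c : ι) (v : V), v ∈ W c ↔ val v ∈ C.I c.1 := fun _ _ => Iff.rfl
  have memSup : ∀ (i j : ι) (v : V), v ∈ W i ⊔ W j ↔
      ∃ x ∈ C.I i.1, ∃ z ∈ C.I j.1, val v = x * z := by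
    intro i j v
    rw [AddSubgroup.mem_sup]
    constructor
    · rintro ⟨a, ha, b, hb, rfl⟩
      exact ⟨_, ha, _, hb, rfl⟩
    · rintro ⟨x, hx, z, hz, h⟩
      exact ⟨Additive.ofMul ⟨x, C.I_le _ hx⟩, hx, Additive.ofMul ⟨z, C.I_le _ hz⟩, hz,
        Additive.toMul.injective (Subtype.ext h.symm)⟩
  have hWcard : ∀ c : ι, Nat.card (W c) = C.s := fun c => by
    rw [← C.card_I c.2]
    exact Nat.card_congr (Subgroup.subgroupOfEquivOfLe (C.I_le c.1)).toEquiv
  have hline : ∀ i j : ι, i ≠ j → ∃ f : ι, f.1 ∉ C.line i.1 j.1 := by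
    intro i j hij
    obtain ⟨f, hf, hf'⟩ := exists_mem_notMem_of_card_lt_card
      (s := C.line i.1 j.1) (t := C.Δ) (by
        rw [C.card_line fun h => hij (Subtype.ext h), C.D.card_block _ C.hΔ, C.k_val]
        have h1 := Nat.mul_le_mul_right C.s hl
        have := C.s_two
        omega)
    exact ⟨⟨f, hf⟩, hf'⟩
  let S : Spread V ι :=
    { W := W
      s := C.s
      two_le := C.s_two
      card := hWcard
      cover := fun v hv => by
        obtain ⟨c, hc, h⟩ := C.exists_centre (valX v) fun h => hv ((val0 v).1 h)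
        exact ⟨⟨c, hc⟩, h⟩
      disj := fun i j hij v hi hj => (val0 v).1
        (C.I_disjoint i.2 j.2 (fun h => hij (Subtype.ext h.symm)) hi hj)
      plane := fun i j f hij v hv hvf hvP w hw => by
        obtain ⟨x, hx, z, hz, hxz⟩ := (memSup i j v).1 hvP
        have hne : i.1 ≠ j.1 := fun h => hij (Subtype.ext h)
        have h1 : x * z ≠ 1 := fun h => hv ((val0 v).1 (hxz.trans h))
        have hvf' : val v ∈ C.I f.1 := hvf
        have hfl := C.plane_mem i.2 j.2 hne hx hz h1 f.2 (hxz ▸ hvf')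
        exact (memSup i j w).2 (C.plane_decomp i.2 j.2 hne hfl hw)
      big := fun i j hij => by
        obtain ⟨f, hf⟩ := hline i j hij
        refine ⟨f, fun hle => ?_⟩
        obtain ⟨⟨w, hw⟩, hw1⟩ := Subgroup.ne_bot_iff_exists_ne_one.1 (C.I_ne_bot f.2)
        have hw1' : w ≠ 1 := fun h => hw1 (Subtype.ext h)
        obtain ⟨x, hx, z, hz, hxz⟩ := (memSup i j _).1
          (hle (show Additive.ofMul (⟨w, C.I_le _ hw⟩ : C.X) ∈ W f from hw))
        have hxz' : w = x * z := hxz
        exact hf (C.plane_mem i.2 j.2 (fun h => hij (Subtype.ext h)) hx hz (hxz' ▸ hw1') f.2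
          (hxz' ▸ hw))
      two := by
        obtain ⟨c, hc, d, hd, hne⟩ := one_lt_card.1 (show 1 < C.Δ.card by
          rw [C.D.card_block _ C.hΔ]; exact C.D.two_le)
        exact ⟨⟨c, hc⟩, ⟨d, hd⟩, fun h => hne (congrArg Subtype.val h)⟩ }
  obtain ⟨F, iF, iFt, iM, hF, hpres⟩ := S.exists_field
  letI : Fintype V := Fintype.ofFinite V
  haveI : Module.Finite F V := Module.Finite.of_finite
  set m := Module.finrank F V with hm
  have hVcard : Nat.card V = C.e := Nat.card_congr Additive.toMul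
  have hFV : Nat.card V = Fintype.card F ^ m := by
    rw [Nat.card_eq_fintype_card]; exact Module.card_eq_pow_finrank
  have hm2 : 2 ≤ m := by
    by_contra h
    have h1 : Fintype.card F ^ m ≤ Fintype.card F :=
      (Nat.pow_le_pow_right Fintype.card_pos (show m ≤ 1 by omega)).trans_eq (pow_one _)
    have hle : C.e ≤ C.s := by rw [← hVcard, hFV, ← show Fintype.card F = C.s from hF]; exact h1
    rw [C.e_eq] at hle
    have := Nat.mul_le_mul_right C.s C.a_two
    have := C.s_two
    omega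
  let E : (F × V) ≃ₗ[F] (Fin (m + 1) → F) := LinearEquiv.ofFinrankEq _ _ (by
    rw [Module.finrank_prod, Module.finrank_self, Module.finrank_fin_fun]; omega)
  -- representatives
  have hc0 : ∀ c : ι, ∃ v ∈ W c, v ≠ (0 : V) := fun c => S.exists_ne_zero c
  choose rep hrep hrep0 using hc0
  obtain ⟨o, ho⟩ := C.exists_outside
  have hout : ∀ p : Ω, p ∉ C.Δ → ∃ v : V, val v • o = p := fun p hp => by
    obtain ⟨x, hx, h⟩ := C.exists_smul_eq ho hp
    exact ⟨Additive.ofMul ⟨x, hx⟩, h⟩
  choose xo hxo using hout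
  let vec : Ω → F × V := fun p => if h : p ∈ C.Δ then (0, rep ⟨p, h⟩) else (1, xo p h)
  have vecin : ∀ p (h : p ∈ C.Δ), vec p = (0, rep ⟨p, h⟩) := fun p h => dif_pos h
  have vecout : ∀ p (h : p ∉ C.Δ), vec p = (1, xo p h) := fun p h => dif_neg h
  have vec0 : ∀ p, vec p ≠ 0 := fun p => by
    by_cases h : p ∈ C.Δ
    · rw [vecin p h]; exact fun e => hrep0 _ (Prod.ext_iff.1 e).2
    · rw [vecout p h]; exact fun e => one_ne_zero (Prod.ext_iff.1 e).1
  have Evec0 : ∀ p, E (vec p) ≠ 0 := fun p h => vec0 p (E.map_eq_zero_iff.1 h)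
  have hinj : Function.Injective fun p => Projectivization.mk F (E (vec p)) (Evec0 p) := by
    intro p q h
    obtain ⟨a, ha⟩ := (Projectivization.mk_eq_mk_iff' F _ _ _ _).1 h
    rw [← map_smul] at ha
    have hpq : a • vec q = vec p := E.injective ha
    by_cases hp : p ∈ C.Δ <;> by_cases hq : q ∈ C.Δ
    · rw [vecin p hp, vecin q hq, Prod.smul_mk, Prod.mk.injEq] at hpq
      have hmem : rep ⟨p, hp⟩ ∈ W ⟨q, hq⟩ := hpq.2 ▸ hpres a _ _ (hrep _)
      exact congrArg Subtype.val (S.eq_of_mem (hrep0 _) (hrep ⟨p, hp⟩) hmem)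
    · rw [vecin p hp, vecout q hq, Prod.smul_mk, Prod.mk.injEq, smul_eq_mul, mul_one] at hpq
      rw [hpq.1, zero_smul] at hpq
      exact absurd hpq.2.symm (hrep0 _)
    · rw [vecout p hp, vecin q hq, Prod.smul_mk, Prod.mk.injEq, smul_zero] at hpq
      exact absurd hpq.1.symm one_ne_zero
    · rw [vecout p hp, vecout q hq, Prod.smul_mk, Prod.mk.injEq, smul_eq_mul, mul_one] at hpq
      rw [hpq.1, one_smul] at hpq
      rw [← hxo p hp, ← hxo q hq, hpq.2]
  have hspan : ∀ (c : ι) (v : V), v ∈ W c → ∃ a : F, a • rep c = v := by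
    intro c v hv
    let f : F → W c := fun a => ⟨a • rep c, hpres a _ _ (hrep c)⟩
    have hfinj : Function.Injective f := fun a b h =>
      smul_left_injective F (hrep0 c) (congrArg Subtype.val h)
    obtain ⟨a, ha⟩ := ((Nat.bijective_iff_injective_and_card f).2 ⟨hfinj, by
      rw [Nat.card_eq_fintype_card, hF]; exact (hWcard c).symm⟩).2 ⟨v, hv⟩
    exact ⟨a, congrArg Subtype.val ha⟩
  have hsurj : Function.Surjective fun p => Projectivization.mk F (E (vec p)) (Evec0 p) := by
    intro P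
    induction P using Projectivization.ind with
    | _ u hu =>
      obtain ⟨⟨t, v⟩, rfl⟩ := E.surjective u
      by_cases ht : t = 0
      · subst ht
        have hv : v ≠ 0 := fun h => hu (by rw [h]; exact E.map_zero)
        obtain ⟨c, hc⟩ := S.cover v hv
        obtain ⟨a, ha⟩ := hspan c v hc
        have ha0 : a ≠ 0 := fun h => hv (by rw [← ha, h, zero_smul])
        refine ⟨c.1, (Projectivization.mk_eq_mk_iff' F _ _ _ _).2 ⟨a⁻¹, ?_⟩⟩
        rw [← map_smul, vecin c.1 c.2, Prod.smul_mk, smul_zero, ← ha, inv_smul_smul₀ ha0]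
      · have hw : val (t⁻¹ • v) • o ∉ C.Δ := C.smul_not_mem (C.X_fixΔ (valX _)) ho
        refine ⟨val (t⁻¹ • v) • o, (Projectivization.mk_eq_mk_iff' F _ _ _ _).2 ⟨t⁻¹, ?_⟩⟩
        rw [← map_smul, vecout _ hw, Prod.smul_mk, smul_eq_mul, inv_mul_cancel₀ ht]
        congr 2
        exact Additive.toMul.injective (Subtype.ext (C.inj_orbit (valX _) (valX _) ho (hxo _ hw).symm))
  refine ⟨F, iF, iFt, m, Equiv.ofBijective _ ⟨hinj, hsurj⟩, hm2, fun B hB => ?_⟩
  -- a submodule as large as `V` has dimension `m`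
  have finish : ∀ K : Submodule F (F × V), Nat.card K = Nat.card V →
      (∀ p, p ∈ B ↔ vec p ∈ K) → ∃ W' : Submodule F (Fin (m + 1) → F), Module.finrank F W' = m ∧
        ∀ p : Ω, p ∈ B ↔ ((Equiv.ofBijective _ ⟨hinj, hsurj⟩) p).submodule ≤ W' := by
    intro K hK hmem
    refine ⟨K.map E.toLinearMap, ?_, fun p => ?_⟩
    · rw [LinearEquiv.finrank_map_eq]
      rw [hFV, Nat.card_eq_fintype_card, Module.card_eq_pow_finrank (K := F) (V := K)] at hK
      exact Nat.pow_right_injective (by rw [show Fintype.card F = C.s from hF]; exact C.s_two) hK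
    · refine (hmem p).trans (Iff.trans ?_ (mk_le_iff (Evec0 p) _).symm)
      exact ⟨fun h => Submodule.mem_map_of_mem h, fun h => by
        obtain ⟨u, hu, he⟩ := Submodule.mem_map.1 h
        exact E.injective he ▸ hu⟩
  by_cases hBΔ : B = C.Δ
  · subst hBΔ
    refine finish (LinearMap.ker (LinearMap.fst F F V)) ?_ fun p => ?_
    · exact Nat.card_congr
        { toFun := fun u => u.1.2
          invFun := fun v => ⟨(0, v), rfl⟩
          left_inv := fun u => Subtype.ext (Prod.ext (Eq.symm u.2) rfl)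
          right_inv := fun _ => rfl }
    · by_cases hp : p ∈ C.Δ
      · simp [vecin p hp, hp]
      · simp [vecout p hp, hp]
  obtain ⟨p₀, hp₀B, hp₀⟩ := C.exists_outside_mem hB hBΔ
  set x₀ := xo p₀ hp₀
  -- the stabiliser of `B` is a subspace
  have hUc : ∀ (c : ι) (v : V), v ∈ W c → v ≠ 0 → (val v ∈ C.U B ↔ c.1 ∈ B) := fun c v hv hv0 =>
    C.mem_U_iff c.2 hv (fun h => hv0 ((val0 v).1 h)) hB hBΔ
  let U : Submodule F V :=
    { carrier := {v | val v ∈ C.U B}
      add_mem' := fun {u v} hu hv => (C.U B).mul_mem hu hv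
      zero_mem' := (C.U B).one_mem
      smul_mem' := fun a v hv => by
        by_cases hv0 : v = 0
        · subst hv0; rw [smul_zero]; exact (C.U B).one_mem
        obtain ⟨c, hc⟩ := S.cover v hv0
        by_cases ha0 : a • v = 0
        · show val (a • v) ∈ C.U B
          rw [ha0]; exact (C.U B).one_mem
        exact (hUc c _ (hpres a c v hc) ha0).2 ((hUc c v hc hv0).1 hv) }
  have memU : ∀ v : V, v ∈ U ↔ val v ∈ C.U B := fun _ => Iff.rfl
  let K : Submodule F (F × V) :=
    U.comap (LinearMap.snd F F V - LinearMap.smulRight (LinearMap.fst F F V) x₀)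
  have memK : ∀ t v, ((t, v) : F × V) ∈ K ↔ v - t • x₀ ∈ U := fun t v => by
    simp [K]
  refine finish K ?_ fun p => ?_
  · have e : K ≃ F × U :=
      { toFun := fun u => (u.1.1, ⟨u.1.2 - u.1.1 • x₀, (memK _ _).1 u.2⟩)
        invFun := fun u => ⟨(u.1, (u.2 : V) + u.1 • x₀), (memK _ _).2 (by simp)⟩
        left_inv := fun u => Subtype.ext (Prod.ext rfl (sub_add_cancel _ _))
        right_inv := fun u => Prod.ext rfl (Subtype.ext (add_sub_cancel_right _ _)) }
    have hU : Nat.card U = C.a := by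
      rw [← C.card_U hB hBΔ]
      exact Nat.card_congr
        { toFun := fun v => ⟨val v.1, v.2⟩
          invFun := fun x => ⟨Additive.ofMul ⟨x.1, C.U_le B x.2⟩, x.2⟩
          left_inv := fun _ => rfl
          right_inv := fun _ => rfl }
    rw [Nat.card_congr e, Nat.card_prod, hU, Nat.card_eq_fintype_card (α := F), hF, hVcard, C.e_eq,
      mul_comm]
  · by_cases hp : p ∈ C.Δ
    · rw [vecin p hp, memK, zero_smul, sub_zero, memU]
      exact (hUc ⟨p, hp⟩ _ (hrep _) (hrep0 _)).symm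
    · rw [vecout p hp, memK, one_smul, memU]
      rw [← C.mem_block_iff hB hp₀B hp₀ (valX _)]
      have : val (xo p hp - x₀) • p₀ = p := by
        conv_lhs => rw [← hxo p₀ hp₀, ← mul_smul]
        rw [show val (xo p hp - x₀) * val (xo p₀ hp₀) = val (xo p hp - x₀ + x₀) from rfl,
          sub_add_cancel, hxo]
      rw [this]

theorem hasCoord : HasCoord C := by
  rcases Nat.lt_or_ge C.D.l 2 with h | h
  · exact C.hasCoord_of_one (by have := C.D.l_pos; omega)
  · exact C.hasCoord_of_two h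

end Cfg

end Cfsg.Agent.Perm.AxialDesign
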