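import Mathlib.LinearAlgebra.Projectivization.Action
import Mathlib.LinearAlgebra.Projectivization.Cardinality
import Mathlib.LinearAlgebra.Matrix.Dual
import Mathlib.LinearAlgebra.Matrix.SchurComplement
import Cfsg.Agent.Lib.Classical.LinBasic
import Cfsg.Agent.Lib.Perm.AxialDesign.Coord

/-!
The group generated by the axial subgroups is the projective special linear group.
-/

set_option autoImplicit false

open scoped Pointwise LinearAlgebra.Projectivization Matrix
open Finset

namespace Cfsg.Agent.Perm.AxialDesign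

variable {G Ω : Type*} [Group G] [Finite G] [DecidableEq G] [Fintype Ω] [DecidableEq Ω] [MulAction G Ω]

namespace Cfg

variable (C : Cfg G Ω)

omit [Finite G] [DecidableEq G] in
theorem smul_fix_of (g : G) {B : Finset Ω} (h : ∀ b ∈ B, g • b = b) : g • B = B := by
  refine eq_of_subset_of_card_le (fun q hq => ?_) (by rw [card_smul_finset])
  obtain ⟨c, hc, rfl⟩ := mem_smul_finset.1 hq
  rwa [h c hc]

/-- The configuration transported by a group element. -/
def move' (g : G) : Cfg G Ω where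
  D := C.D
  inv := C.inv
  faithful := C.faithful
  trans2 := C.trans2
  btrans := C.btrans
  Δ := g • C.Δ
  hΔ := C.inv g _ C.hΔ
  trans := fun c hc c' hc' => by
    obtain ⟨d, hd, rfl⟩ := mem_smul_finset.1 hc
    obtain ⟨d', hd', rfl⟩ := mem_smul_finset.1 hc'
    obtain ⟨h, hΔ, hd⟩ := C.trans d hd d' hd'
    refine ⟨g * h * g⁻¹, ?_, ?_⟩
    · rw [mul_smul, mul_smul, inv_smul_smul, hΔ]
    · rw [mul_smul, mul_smul, inv_smul_smul, hd]
  move := fun r => by
    obtain ⟨h, hΔ, hr⟩ := C.move (g⁻¹ • r)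
    refine ⟨g * h * g⁻¹, ?_, ?_⟩
    · rw [mul_smul, mul_smul, inv_smul_smul, hΔ]
    · rw [mul_smul, mul_smul]
      exact fun e => hr (by rw [← eq_inv_smul_iff] at e; exact e)
  X := C.X.map (MulAut.conj g).toMonoidHom
  X_ne := fun h => C.X_ne ((Subgroup.map_eq_bot_iff_of_injective _ (MulAut.conj g).injective).1 h)
  X_comm := by
    rintro _ ⟨x, hx, rfl⟩ _ ⟨z, hz, rfl⟩
    rw [← map_mul, ← map_mul, C.X_comm x hx z hz]
  X_normal := fun h hh => by
    rintro _ ⟨x, hx, rfl⟩
    refine ⟨(g⁻¹ * h * g) * x * (g⁻¹ * h * g)⁻¹, C.X_normal _ ?_ x hx, ?_⟩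
    · rw [mul_smul, mul_smul, hh, inv_smul_smul]
    · show g * ((g⁻¹ * h * g) * x * (g⁻¹ * h * g)⁻¹) * g⁻¹ = h * (g * x * g⁻¹) * h⁻¹
      group
  X_fix := by
    rintro _ ⟨x, hx, rfl⟩ c hc
    obtain ⟨d, hd, rfl⟩ := mem_smul_finset.1 hc
    show (g * x * g⁻¹) • (g • d) = g • d
    rw [mul_smul, mul_smul, inv_smul_smul, C.X_fix x hx d hd]
  X_min := fun K hK hKn => by
    have hKX : K.comap (MulAut.conj g).toMonoidHom ≤ C.X := fun x hx => by
      obtain ⟨z, hz, he⟩ := hK hx
      exact (MulAut.conj g).injective he ▸ hz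
    have hsurj : Function.Surjective (MulAut.conj g).toMonoidHom := (MulAut.conj g).surjective
    rcases C.X_min _ hKX fun h hh x hx => (show g * (h * x * h⁻¹) * g⁻¹ ∈ K from by
        have h1 := hKn (g * h * g⁻¹) (by rw [mul_smul, mul_smul, inv_smul_smul, hh])
          (g * x * g⁻¹) hx
        have e : g * h * g⁻¹ * (g * x * g⁻¹) * (g * h * g⁻¹)⁻¹ = g * (h * x * h⁻¹) * g⁻¹ := by group
        rwa [e] at h1) with h | h
    · left
      rw [← Subgroup.map_comap_eq_self_of_surjective hsurj K, h, Subgroup.map_bot]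
    · right
      rw [← Subgroup.map_comap_eq_self_of_surjective hsurj K, h]
  pp := C.pp
  pp_prime := C.pp_prime
  X_pgroup := C.X_pgroup.map _

end Cfg

section Coordinates

variable {F : Type} [Field F] {m : ℕ}

/-- The transvection with axis the kernel of `w` and centre `u`. -/
def tr (w u : Fin (m + 1) → F) (h : w ⬝ᵥ u = 0) : Matrix.SpecialLinearGroup (Fin (m + 1)) F :=
  ⟨1 + Matrix.vecMulVec u w, by
    rw [Matrix.vecMulVec_eq Unit, Matrix.det_one_add_replicateCol_mul_replicateRow, h, add_zero]⟩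

theorem tr_smul (w u : Fin (m + 1) → F) (h : w ⬝ᵥ u = 0) (v : Fin (m + 1) → F) :
    tr w u h • v = v + (w ⬝ᵥ v) • u := by
  show (1 + Matrix.vecMulVec u w) *ᵥ v = _
  rw [Matrix.add_mulVec, Matrix.one_mulVec, Matrix.vecMulVec_mulVec, op_smul_eq_smul]

variable [Fintype F]
variable (φ : Ω ≃ ℙ F (Fin (m + 1) → F))

/-- The permutation of the points induced by a matrix. -/
def act : Matrix.SpecialLinearGroup (Fin (m + 1)) F →* Equiv.Perm Ω :=
  (φ.symm.permCongrHom).toMonoidHom.comp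
    (MulAction.toPermHom (Matrix.SpecialLinearGroup (Fin (m + 1)) F) (ℙ F (Fin (m + 1) → F)))

omit [Fintype Ω] [DecidableEq Ω] [Fintype F] in
theorem act_apply (g : Matrix.SpecialLinearGroup (Fin (m + 1)) F) (p : Ω) :
    act φ g p = φ.symm (g • φ p) := rfl

omit [Fintype Ω] [DecidableEq Ω] [Fintype F] in
theorem act_mk (g : Matrix.SpecialLinearGroup (Fin (m + 1)) F) {v : Fin (m + 1) → F} (hv : v ≠ 0) :
    act φ g (φ.symm (Projectivization.mk F v hv))
      = φ.symm (Projectivization.mk F (g • v) ((smul_ne_zero_iff_ne g).2 hv)) := by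
  rw [act_apply, Equiv.apply_symm_apply, Projectivization.smul_mk]

omit [Fintype Ω] [DecidableEq Ω] [Fintype F] in
theorem exists_vec (p : Ω) : ∃ (v : Fin (m + 1) → F) (hv : v ≠ 0), p = φ.symm (Projectivization.mk F v hv) :=
  ⟨(φ p).rep, (φ p).rep_nonzero, by rw [Projectivization.mk_rep, Equiv.symm_apply_apply]⟩

variable (C : Cfg G Ω)

/-- `w` is an equation of the block `B`. -/
def IsEq (w : Fin (m + 1) → F) (B : Finset Ω) : Prop :=
  w ≠ 0 ∧ ∀ (v : Fin (m + 1) → F) (hv : v ≠ 0), φ.symm (Projectivization.mk F v hv) ∈ B ↔ w ⬝ᵥ v = 0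

omit [DecidableEq Ω] [Fintype F] [Fintype Ω] in
theorem exists_eq {B : Finset Ω} {W : Submodule F (Fin (m + 1) → F)}
    (hW : Module.finrank F W = m) (h : ∀ p : Ω, p ∈ B ↔ (φ p).submodule ≤ W) :
    ∃ w, IsEq φ w B := by
  have hlt : W < ⊤ := lt_top_iff_ne_top.2 fun e => by
    rw [e, finrank_top, Module.finrank_fin_fun] at hW; omega
  obtain ⟨f, hf0, hfW⟩ := Submodule.exists_le_ker_of_lt_top W hlt
  have hker : LinearMap.ker f = W := by
    symm
    refine Submodule.eq_of_le_of_finrank_le hfW ?_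
    rw [hW]
    have h1 : LinearMap.ker f < ⊤ := lt_top_iff_ne_top.2 fun e => hf0 (LinearMap.ker_eq_top.1 e)
    have := Submodule.finrank_lt (h1.ne)
    rw [Module.finrank_fin_fun] at this
    omega
  have he : ∀ v, ((dotProductEquiv F (Fin (m + 1))).symm f) ⬝ᵥ v = f v := fun v => by
    conv_rhs => rw [← (dotProductEquiv F (Fin (m + 1))).apply_symm_apply f]
    rfl
  refine ⟨(dotProductEquiv F (Fin (m + 1))).symm f, fun e => hf0 ?_, fun v hv => ?_⟩
  · exact (LinearEquiv.map_eq_zero_iff _).1 e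
  · rw [h, Equiv.apply_symm_apply, mk_le_iff hv, ← hker, LinearMap.mem_ker, he]

omit [Finite G] [DecidableEq G] [Fintype F] in
theorem eq_block {w : Fin (m + 1) → F} {B B' : Finset Ω} (h : IsEq φ w B) (h' : IsEq φ w B') :
    B = B' := by
  ext p
  obtain ⟨v, hv, rfl⟩ := exists_vec φ p
  rw [h.2, h'.2]

/-- Every nonzero vector is the equation of a block. -/
theorem exists_block_eq
    (hco : ∀ B ∈ C.D.blocks, ∃ W : Submodule F (Fin (m + 1) → F), Module.finrank F W = m ∧
      ∀ p : Ω, p ∈ B ↔ (φ p).submodule ≤ W)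
    {w : Fin (m + 1) → F} (hw : w ≠ 0) : ∃ B ∈ C.D.blocks, IsEq φ w B := by
  classical
  have hex : ∀ B : C.D.blocks, ∃ w, IsEq φ w B.1 := fun B => by
    obtain ⟨W, hW, h⟩ := hco B.1 B.2
    exact exists_eq φ hW h
  choose eqn heqn using hex
  let ψ : C.D.blocks → ℙ F (Fin (m + 1) → F) := fun B => Projectivization.mk F (eqn B) (heqn B).1
  have hψ : Function.Bijective ψ := by
    refine (Nat.bijective_iff_injective_and_card ψ).2 ⟨fun B B' h => ?_, ?_⟩
    · obtain ⟨a, ha⟩ := (Projectivization.mk_eq_mk_iff' F _ _ _ _).1 h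
      have ha0 : a ≠ 0 := fun e => (heqn B).1 (by rw [← ha, e, zero_smul])
      refine Subtype.ext (eq_block φ (heqn B) ⟨(heqn B).1, fun v hv => ?_⟩)
      rw [(heqn B').2, ← ha, smul_dotProduct, smul_eq_mul, mul_eq_zero, or_iff_right ha0]
    · rw [← Nat.card_congr φ, Nat.card_eq_fintype_card, Nat.card_eq_fintype_card, Fintype.card_coe,
        C.D.card_blocks]
  obtain ⟨B, hB⟩ := hψ.2 (Projectivization.mk F w hw)
  obtain ⟨a, ha⟩ := (Projectivization.mk_eq_mk_iff' F _ _ _ _).1 hB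
  refine ⟨B.1, B.2, hw, fun v hv => ?_⟩
  rw [(heqn B).2, ← ha, smul_dotProduct, smul_eq_mul, mul_eq_zero, or_iff_right]
  rintro rfl
  exact (heqn B).1 (by rw [← ha, zero_smul])

variable (hco : ∀ B ∈ C.D.blocks, ∃ W : Submodule F (Fin (m + 1) → F), Module.finrank F W = m ∧
    ∀ p : Ω, p ∈ B ↔ (φ p).submodule ≤ W)
include hco

theorem act_blocks (g : Matrix.SpecialLinearGroup (Fin (m + 1)) F) :
    ∀ B ∈ C.D.blocks, act φ g • B ∈ C.D.blocks := by
  intro B hB
  obtain ⟨W, hW, h⟩ := hco B hB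
  obtain ⟨w, hw⟩ := exists_eq φ hW h
  set w' := w ᵥ* (g⁻¹ : Matrix.SpecialLinearGroup (Fin (m + 1)) F).1 with hw'
  have hdot : ∀ v, w' ⬝ᵥ v = w ⬝ᵥ (g⁻¹ • v) := fun v => (Matrix.dotProduct_mulVec w _ v).symm
  have hw'0 : w' ≠ 0 := fun e => by
    apply hw.1
    funext i
    have := hdot (g • (Pi.single i 1 : Fin (m + 1) → F))
    rw [inv_smul_smul, e, zero_dotProduct, dotProduct_single, mul_one] at this
    exact this.symm
  obtain ⟨B', hB', he⟩ := exists_block_eq φ C hco hw'0
  suffices h : act φ g • B = B' by rw [h]; exact hB'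
  ext p
  rw [← inv_smul_mem_iff, ← map_inv]
  obtain ⟨v, hv, rfl⟩ := exists_vec φ p
  rw [Equiv.Perm.smul_def, act_mk, hw.2, he.2, hdot]

omit [Fintype F] in
theorem centre_line {u v : Fin (m + 1) → F} (hu : u ≠ 0) (hv : v ≠ 0) {a : F} (ha : a ≠ 0)
    (hq : v + a • u ≠ 0) {B : Finset Ω} (hB : B ∈ C.D.blocks)
    (h1 : φ.symm (Projectivization.mk F v hv) ∈ B)
    (h2 : φ.symm (Projectivization.mk F (v + a • u) hq) ∈ B) :
    φ.symm (Projectivization.mk F u hu) ∈ B := by
  obtain ⟨W, hW, h⟩ := hco B hB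
  obtain ⟨w, hw⟩ := exists_eq φ hW h
  rw [hw.2] at h1 h2 ⊢
  rw [dotProduct_add, h1, zero_add, dotProduct_smul, smul_eq_mul, mul_eq_zero] at h2
  exact h2.resolve_left ha

/-- A transvection whose axis is `Δ` is an element of `X`. -/
theorem tr_mem_X {w u : Fin (m + 1) → F} (hw : IsEq φ w C.Δ) (h : w ⬝ᵥ u = 0) :
    ∃ x ∈ C.X, MulAction.toPermHom G Ω x = act φ (tr w u h) := by
  by_cases hu : u = 0
  · refine ⟨1, C.X.one_mem, ?_⟩
    have : tr w u h = 1 := Subtype.ext (by subst hu; simp [tr])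
    rw [this, map_one, map_one]
  set t := act φ (tr w u h) with ht
  set c := φ.symm (Projectivization.mk F u hu) with hc
  have hcΔ : c ∈ C.Δ := (hw.2 u hu).2 h
  have htfix : ∀ b ∈ C.Δ, t • b = b := fun b hb => by
    obtain ⟨v, hv, rfl⟩ := exists_vec φ b
    rw [Equiv.Perm.smul_def, ht, act_mk]
    congr 1
    simp only [tr_smul, (hw.2 v hv).1 hb, zero_smul, add_zero]
  obtain ⟨p, hp⟩ := C.exists_outside
  obtain ⟨v, hv, hpv⟩ := exists_vec φ p
  have hwv : w ⬝ᵥ v ≠ 0 := fun e => hp (hpv ▸ (hw.2 v hv).2 e)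
  have htv : tr w u h • v = v + (w ⬝ᵥ v) • u := tr_smul w u h v
  set q := t • p with hqdef
  have hq0 : v + (w ⬝ᵥ v) • u ≠ 0 := htv ▸ (smul_ne_zero_iff_ne _).2 hv
  have hqv : q = φ.symm (Projectivization.mk F (v + (w ⬝ᵥ v) • u) hq0) := by
    rw [hqdef, Equiv.Perm.smul_def, ht, hpv, act_mk]
    congr 1
    simp only [htv]
  have hqΔ : q ∉ C.Δ := fun hm => hp (by
    have := htfix q hm
    rw [hqdef] at this
    rw [← MulAction.injective t this]
    exact hm)
  obtain ⟨x, hx, hxp⟩ := C.exists_smul_eq hp hqΔ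
  have hqp : q ≠ p := fun e => by
    rw [hqv, hpv] at e
    obtain ⟨b, hb⟩ := (Projectivization.mk_eq_mk_iff' F _ _ _ _).1 (φ.symm.injective e)
    have hb' := congrArg (w ⬝ᵥ ·) hb
    simp only [dotProduct_smul, dotProduct_add, h, smul_zero, add_zero, smul_eq_mul, mul_zero] at hb'
    have hb1 : b = 1 := mul_right_cancel₀ hwv (by rw [hb', one_mul])
    rw [hb1, one_smul, eq_comm, add_eq_left, smul_eq_zero] at hb
    exact hb.elim hwv hu
  have hx1 : x ≠ 1 := fun e => hqp (by rw [← hxp, e, one_smul])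
  obtain ⟨c', hc'Δ, hxc'⟩ := C.exists_centre hx hx1
  have hcc : c' = c := by
    refine C.star2_injective hc'Δ hcΔ hp ?_
    rw [C.star2_centre hc'Δ hxc' hx1 hp, hxp]
    refine C.star2_sub_eq hqp.symm (C.ne_of_mem_not_mem hcΔ hp) fun B hB => ?_
    rw [Des.mem_star2] at hB ⊢
    exact ⟨hB.1, centre_line φ C hco hu hv hwv hq0 hB.1 (hpv ▸ hB.2.1) (hqv ▸ hB.2.2), hB.2.1⟩
  subst hcc
  refine ⟨x, hx, ?_⟩
  -- the quotient of the two fixes `Δ`, `p` and the blocks through the centre
  set τ : Equiv.Perm Ω := (MulAction.toPermHom G Ω x)⁻¹ * t with hτ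
  have hxinv : ∀ B ∈ C.D.blocks, (MulAction.toPermHom G Ω x)⁻¹ • B ∈ C.D.blocks := by
    intro B hB
    have h1 := C.inv x⁻¹ B hB
    have e : (MulAction.toPermHom G Ω x)⁻¹ • B = x⁻¹ • B := by
      rw [← map_inv]
      ext r
      simp only [mem_smul_finset]
      rfl
    rwa [e]
  have hτinv : ∀ B ∈ C.D.blocks, τ • B ∈ C.D.blocks := fun B hB => by
    rw [hτ, mul_smul]; exact hxinv _ (act_blocks φ C hco _ B hB)
  have hxfix : ∀ b : Ω, x • b = b → (MulAction.toPermHom G Ω x)⁻¹ • b = b := fun b hb => by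
    rw [inv_smul_eq_iff]; show b = x • b; exact hb.symm
  have hτfix : ∀ b ∈ C.Δ, τ • b = b := fun b hb => by
    rw [hτ, mul_smul, htfix b hb, hxfix b (C.X_fix x hx b hb)]
  have hτp : τ • p = p := by
    rw [hτ, mul_smul, ← hqdef, inv_smul_eq_iff]; show q = x • p; exact hxp.symm
  suffices hall : ∀ r : Ω, τ • r = r by
    have : τ = 1 := Equiv.ext fun r => hall r
    rwa [hτ, inv_mul_eq_one] at this
  by_contra hne
  have hfixset : (univ.filter fun r : Ω => τ • r = r) = insert p C.Δ := by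
    ext r
    simp only [mem_filter, mem_univ, true_and, mem_insert]
    refine ⟨fun hr => ?_, fun hr => hr.elim (fun e => e ▸ hτp) (hτfix r)⟩
    by_contra h'
    push_neg at h'
    exact hne (C.D.axial_two_fixed C.hΔ τ hτinv hτfix h'.1 hr hτp h'.2 hp)
  have hcard := C.D.fix_eq τ hτinv
  rw [hfixset, card_insert_of_notMem hp, C.D.card_block _ C.hΔ] at hcard
  have hsub : insert C.Δ (C.D.star p) ⊆ C.D.blocks.filter fun B => τ • B = B := by
    intro B hB
    rw [mem_filter]
    rcases mem_insert.1 hB with rfl | hB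
    · exact ⟨C.hΔ, Cfg.smul_fix_of τ hτfix⟩
    · rw [Des.mem_star] at hB
      exact ⟨hB.1, C.D.axial_pair_fix C.hΔ τ hτinv hτfix hB.1 hB.2 (hτp.symm ▸ hB.2) hp⟩
  have hfull := eq_of_subset_of_card_le hsub (by
    rw [hcard, card_insert_of_notMem (fun h => hp (C.D.mem_star.1 h).2), C.D.card_star])
  have hS : C.S c ⊆ C.D.star2 c p := by
    intro B hB
    have hB' := C.mem_S.1 hB
    have hxB : x • B = B := (C.mem_I.1 hxc').2 B hB
    have htB : t • B = B := by
      refine eq_of_subset_of_card_le (fun r hr => ?_) (by rw [card_smul_finset])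
      obtain ⟨r, hrB, rfl⟩ := mem_smul_finset.1 hr
      obtain ⟨v', hv', rfl⟩ := exists_vec φ r
      obtain ⟨W, hW, h'⟩ := hco B hB'.2.1
      obtain ⟨w', hw'⟩ := exists_eq φ hW h'
      rw [Equiv.Perm.smul_def, ht, act_mk, hw'.2, tr_smul, dotProduct_add, (hw'.2 v' hv').1 hrB,
        dotProduct_smul, (hw'.2 u hu).1 hB'.2.2, smul_zero, add_zero]
    have hτB : τ • B = B := by
      rw [hτ, mul_smul, htB, inv_smul_eq_iff]
      exact hxB.symm
    have hm : B ∈ insert C.Δ (C.D.star p) := by rw [hfull]; exact mem_filter.2 ⟨hB'.2.1, hτB⟩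
    rcases mem_insert.1 hm with e | e
    · exact absurd e hB'.1
    · exact C.D.mem_star2.2 ⟨hB'.2.1, hB'.2.2, (C.D.mem_star.1 e).2⟩
  have := card_le_card hS
  rw [C.card_S hcΔ, C.D.card_star2 (C.ne_of_mem_not_mem hcΔ hp), C.k_val] at this
  have := C.D.l_pos
  have := Nat.mul_le_mul_left C.D.l C.s_two
  omega

/-- Every element of `X` is a transvection with axis `Δ`. -/
theorem X_mem_tr {w : Fin (m + 1) → F} (hw : IsEq φ w C.Δ) {x : G} (hx : x ∈ C.X) :
    ∃ (u : Fin (m + 1) → F) (h : w ⬝ᵥ u = 0), MulAction.toPermHom G Ω x = act φ (tr w u h) := by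
  by_cases hx1 : x = 1
  · refine ⟨0, dotProduct_zero _, ?_⟩
    have : tr w 0 (dotProduct_zero _) = 1 := Subtype.ext (by simp [tr])
    rw [hx1, map_one, this, map_one]
  obtain ⟨c, hc, hxc⟩ := C.exists_centre hx hx1
  obtain ⟨p, hp⟩ := C.exists_outside
  obtain ⟨v, hv, hpv⟩ := exists_vec φ p
  obtain ⟨u, hu, hcu⟩ := exists_vec φ c
  obtain ⟨v', hv', hqv⟩ := exists_vec φ (x • p)
  have hwu : w ⬝ᵥ u = 0 := (hw.2 u hu).1 (hcu ▸ hc)
  have hwv : w ⬝ᵥ v ≠ 0 := fun e => hp (hpv ▸ (hw.2 v hv).2 e)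
  have hmem : v' ∈ Submodule.span F ({u, v} : Set (Fin (m + 1) → F)) := by
    by_contra hnot
    obtain ⟨f, hfv, hf⟩ := Submodule.exists_le_ker_of_notMem hnot
    have he : ∀ y, ((dotProductEquiv F (Fin (m + 1))).symm f) ⬝ᵥ y = f y := fun y => by
      conv_rhs => rw [← (dotProductEquiv F (Fin (m + 1))).apply_symm_apply f]
      rfl
    obtain ⟨B, hB, hwB⟩ := exists_block_eq φ C hco
      (w := (dotProductEquiv F (Fin (m + 1))).symm f) (fun e => hfv (by
        rw [← he, e, zero_dotProduct]))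
    have hcB : c ∈ B := hcu ▸ (hwB.2 u hu).2 (by
      rw [he]; exact hf (Submodule.subset_span (by simp)))
    have hpB : p ∈ B := hpv ▸ (hwB.2 v hv).2 (by
      rw [he]; exact hf (Submodule.subset_span (by simp)))
    have hxpB := C.mem_line.1 (C.smul_mem_line_centre hc hxc hp) B (C.D.mem_star2.2 ⟨hB, hcB, hpB⟩)
    exact hfv (by rw [← he]; exact (hwB.2 v' hv').1 (hqv ▸ hxpB))
  obtain ⟨a, b, hab⟩ := Submodule.mem_span_pair.1 hmem
  have hb : b ≠ 0 := fun e => C.smul_not_mem (C.X_fixΔ hx) hp (by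
    rw [hqv, hw.2, ← hab, e, zero_smul, add_zero, dotProduct_smul, hwu, smul_zero])
  set γ := a / (b * (w ⬝ᵥ v))
  have hγ : w ⬝ᵥ (γ • u) = 0 := by rw [dotProduct_smul, hwu, smul_zero]
  obtain ⟨x', hx', he⟩ := tr_mem_X φ C hco hw hγ
  refine ⟨γ • u, hγ, ?_⟩
  suffices x' = x by rwa [← this]
  refine C.inj_orbit hx' hx hp ?_
  have h1 : x' • p = act φ (tr w (γ • u) hγ) p := by rw [← he]; rfl
  rw [h1, hqv, hpv, act_mk]
  congr 1
  refine (Projectivization.mk_eq_mk_iff' F _ _ _ _).2 ⟨b⁻¹, ?_⟩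
  rw [tr_smul, ← hab, smul_add, inv_smul_smul₀ hb, smul_smul, smul_smul]
  refine (add_comm _ _).trans ?_
  congr 2
  simp only [γ]
  field_simp

omit hco
omit [Finite G] [DecidableEq G] [Fintype Ω] [DecidableEq Ω] [Fintype F] in
theorem ker_act : (act φ).ker = Subgroup.center (Matrix.SpecialLinearGroup (Fin (m + 1)) F) := by
  ext g
  rw [MonoidHom.mem_ker, Matrix.SpecialLinearGroup.mem_center_iff]
  constructor
  · intro h
    have hfix : ∀ v : Fin (m + 1) → F, v ≠ 0 → ∃ a : F, g • v = a • v := fun v hv => by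
      have h1 := congrArg φ (Equiv.congr_fun h (φ.symm (Projectivization.mk F v hv)))
      rw [act_mk, Equiv.Perm.one_apply, Equiv.apply_symm_apply, Equiv.apply_symm_apply] at h1
      obtain ⟨a, ha⟩ := (Projectivization.mk_eq_mk_iff' F _ _ _ _).1 h1
      exact ⟨a, ha.symm⟩
    let e : Fin (m + 1) → Fin (m + 1) → F := fun i => Pi.single i 1
    have he : ∀ i, e i ≠ 0 := fun i h => one_ne_zero (α := F) (by simpa [e] using congrFun h i)
    choose a ha using fun i => hfix (e i) (he i)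
    have hcol : ∀ i j, g.1 j i = a i * (if j = i then 1 else 0) := fun i j => by
      have h1 := congrFun (ha i) j
      simpa [e, Matrix.SpecialLinearGroup.smul_def, Matrix.mulVec_single, Pi.single_apply] using h1
    have heq : ∀ i, a i = a 0 := fun i => by
      by_cases hi : i = 0
      · rw [hi]
      have hne : e 0 + e i ≠ 0 := fun h => by
        have := congrFun h i
        simp [e, hi] at this
      obtain ⟨b, hb⟩ := hfix _ hne
      rw [smul_add, ha, ha] at hb
      have h0 := congrFun hb 0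
      have h1 := congrFun hb i
      simp [e, hi, Ne.symm hi] at h0 h1
      rw [h0, h1]
    have hg : g.1 = Matrix.scalar (Fin (m + 1)) (a 0) := by
      ext j i
      rw [hcol i j, heq i, Matrix.scalar_apply, Matrix.diagonal_apply]
      split_ifs <;> simp
    refine ⟨a 0, ?_, hg.symm⟩
    have hdet := g.2
    rwa [hg, Matrix.scalar_apply, Matrix.det_diagonal, Finset.prod_const, card_univ] at hdet
  · rintro ⟨r, hr, hg⟩
    refine Equiv.ext fun p => ?_
    obtain ⟨v, hv, rfl⟩ := exists_vec φ p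
    rw [act_mk, Equiv.Perm.one_apply]
    congr 1
    refine (Projectivization.mk_eq_mk_iff' F _ _ _ _).2 ⟨r, ?_⟩
    rw [Matrix.SpecialLinearGroup.smul_def, ← hg]
    ext i
    simp [Matrix.scalar_apply, Matrix.mulVec_diagonal]

end Coordinates

/-- A group with an axial configuration is a projective special linear group extended by
automorphisms, in its natural action. -/
theorem main (C : Cfg G Ω) :
    ∃ (m : ℕ) (F : Type) (_ : Field F) (_ : Fintype F), 2 ≤ m ∧
      Nat.card Ω = (Fintype.card F ^ (m + 1) - 1) / (Fintype.card F - 1) ∧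
      ∃ N : Subgroup G, N.Normal ∧
        Nonempty (N ≃* Matrix.ProjectiveSpecialLinearGroup (Fin (m + 1)) F) ∧
        Subgroup.centralizer (N : Set G) = ⊥ := by
  classical
  obtain ⟨F, iF, iFt, m, φ, hm, hco⟩ := C.hasCoord
  refine ⟨m, F, iF, iFt, hm, ?_, ?_⟩
  · rw [Nat.card_congr φ, Projectivization.card'', Nat.card_eq_fintype_card (α := Fin (m + 1) → F),
      Fintype.card_fun, Fintype.card_fin, Nat.card_eq_fintype_card]
  set ρ := MulAction.toPermHom G Ω
  have hρ : Function.Injective ρ := (injective_iff_map_eq_one ρ).2 fun g hg =>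
    C.faithful g fun r => Equiv.congr_fun hg r
  set N := Subgroup.normalClosure (C.X : Set G)
  have hmap : N.map ρ = (act φ).range := by
    apply le_antisymm
    · rw [Subgroup.map_le_iff_le_comap]
      refine (Subgroup.closure_le _).2 fun y hy => ?_
      obtain ⟨x, hx, hxy⟩ := Group.mem_conjugatesOfSet_iff.1 hy
      obtain ⟨g, rfl⟩ := isConj_iff.1 hxy
      obtain ⟨W, hW, h⟩ := hco _ (C.inv g _ C.hΔ)
      obtain ⟨w, hw⟩ := exists_eq φ hW h
      obtain ⟨u, hu, he⟩ := X_mem_tr φ (C.move' g) hco (w := w) hw (x := g * x * g⁻¹)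
        ⟨x, hx, rfl⟩
      exact ⟨_, he.symm⟩
    · haveI : Nontrivial (Fin (m + 1)) := Fin.nontrivial_iff_two_le.2 (by omega)
      rw [MonoidHom.range_eq_map, ← Classical.sl_closure_transvections, MonoidHom.map_closure,
        Subgroup.closure_le]
      rintro _ ⟨_, ⟨i, j, hij, c, rfl⟩, rfl⟩
      have hwu : (Pi.single j 1 : Fin (m + 1) → F) ⬝ᵥ (Pi.single i c) = 0 := by
        simp [Pi.single_apply, hij.symm]
      have htr : Matrix.SpecialLinearGroup.transvection hij c
          = tr (Pi.single j 1) (Pi.single i c) hwu := by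
        apply Subtype.ext
        ext r s
        simp only [Matrix.SpecialLinearGroup.transvection_coe, tr, Matrix.add_apply,
          Matrix.vecMulVec_apply, Matrix.single_apply, Pi.single_apply]
        grind
      have hw0 : (Pi.single j 1 : Fin (m + 1) → F) ≠ 0 := fun e =>
        one_ne_zero (α := F) (by simpa using congrFun e j)
      obtain ⟨B, hB, hw⟩ := exists_block_eq φ C hco hw0
      obtain ⟨g, hg⟩ := C.exists_move_to hB
      have hgB : g⁻¹ • C.Δ = B := by rw [← hg, inv_smul_smul]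
      obtain ⟨y, hy, hye⟩ := tr_mem_X φ (C.move' g⁻¹) hco (w := Pi.single j 1)
        (u := Pi.single i c) (by rw [show (C.move' g⁻¹).Δ = B from hgB]; exact hw) hwu
      obtain ⟨x, hx, rfl⟩ := hy
      rw [htr, ← hye]
      exact Subgroup.mem_map_of_mem ρ
        ((Subgroup.normalClosure_normal).conj_mem x (Subgroup.subset_normalClosure hx) g⁻¹)
  refine ⟨N, Subgroup.normalClosure_normal, ⟨?_⟩, ?_⟩
  · exact (Subgroup.equivMapOfInjective N ρ hρ).trans ((MulEquiv.subgroupCongr hmap).trans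
      ((QuotientGroup.quotientKerEquivRange (act φ)).symm.trans
        (QuotientGroup.quotientMulEquivOfEq (ker_act φ))))
  rw [Subgroup.eq_bot_iff_forall]
  intro z hz
  have hfixB : ∀ B ∈ C.D.blocks, z • B = B := by
    intro B hB
    obtain ⟨g, hg⟩ := C.exists_move_to hB
    refine eq_of_subset_of_card_le (fun q hq => ?_) (by rw [card_smul_finset])
    obtain ⟨b, hb, rfl⟩ := mem_smul_finset.1 hq
    obtain ⟨x, hx, hx1⟩ := C.exists_ne_one
    have hgb : g • b ∈ C.Δ := by rw [← hg]; exact smul_mem_smul_finset hb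
    have hconj : g⁻¹ * x * g ∈ N := by
      have := (Subgroup.normalClosure_normal).conj_mem x (Subgroup.subset_normalClosure hx) g⁻¹
      rwa [inv_inv] at this
    have hcomm := Subgroup.mem_centralizer_iff.1 hz _ hconj
    have hfix : x • (g • z • b) = g • z • b := by
      calc x • (g • z • b) = g • ((g⁻¹ * x * g) * z) • b := by
            simp only [mul_smul, smul_inv_smul]
        _ = g • z • (g⁻¹ * x * g) • b := by rw [hcomm, mul_smul]
        _ = g • z • b := by
            rw [mul_smul, mul_smul, C.X_fix x hx _ hgb, inv_smul_smul]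
    have hmem : g • z • b ∈ C.Δ := by_contra fun h => hx1 (C.semireg hx h hfix)
    rw [← hg, smul_mem_smul_finset_iff] at hmem
    exact hmem
  refine C.faithful z fun p => ?_
  by_contra hne
  have hsub : C.D.star p ⊆ C.D.star2 p (z • p) := fun B hB => by
    rw [Des.mem_star] at hB
    rw [Des.mem_star2]
    exact ⟨hB.1, hB.2, hfixB B hB.1 ▸ smul_mem_smul_finset hB.2⟩
  have := card_le_card hsub
  rw [C.D.card_star, C.D.card_star2 (Ne.symm hne)] at this
  exact absurd C.D.l_lt (by omega)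

end Cfsg.Agent.Perm.AxialDesign
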