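import Mathlib.GroupTheory.GroupAction.MultipleTransitivity
import Mathlib.GroupTheory.GroupAction.Quotient
import Cfsg.Agent.Lib.Perm.AxialDesign.Design

/-!
The symmetric design of a two-transitive group with an intransitive subgroup of index the degree.
-/

set_option autoImplicit false

open scoped Pointwise
open Finset

namespace Cfsg.Agent.Perm.AxialDesign

variable {G Ω : Type*} [Group G] [Finite G] [MulAction G Ω] [Fintype Ω] [DecidableEq Ω]

/-- The design whose blocks are the translates of an orbit `Δ` of `H`, with `H` the stabiliser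
of `Δ`, and two orbits on ordered pairs of blocks. -/
structure Pre (H : Subgroup G) (a : Ω) where
  D : Des Ω
  inv : ∀ g : G, ∀ B ∈ D.blocks, g • B ∈ D.blocks
  trans2 : ∀ a b c d : Ω, a ≠ b → c ≠ d → ∃ g : G, g • a = c ∧ g • b = d
  btrans : ∀ A B C E : Finset Ω, A ∈ D.blocks → B ∈ D.blocks → C ∈ D.blocks → E ∈ D.blocks →
    A ≠ B → C ≠ E → ∃ g : G, g • A = C ∧ g • B = E
  Δ : Finset Ω
  hΔ : Δ ∈ D.blocks
  memΔ : ∀ q, q ∈ Δ ↔ ∃ h : H, h • a = q
  hHΔ : ∀ g ∈ H, g • Δ = Δ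
  hstab : ∀ g : G, g • Δ = Δ → g ∈ H

theorem exists_pre (h2 : MulAction.IsMultiplyPretransitive G Ω 2) (H : Subgroup G)
    (hidx : H.index = Nat.card Ω) (hnt : ¬ MulAction.IsPretransitive H Ω)
    (hfix : ∀ a : Ω, ∃ h : H, h • a ≠ a) (a : Ω) : Nonempty (Pre H a) := by
  classical
  letI : Fintype G := Fintype.ofFinite G
  have h2' : ∀ a b c d : Ω, a ≠ b → c ≠ d → ∃ g : G, g • a = c ∧ g • b = d := fun a b c d h h' =>
    (MulAction.is_two_pretransitive_iff.1 h2) h h'
  -- the orbit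
  set Δ : Finset Ω := (MulAction.orbit H a).toFinset with hΔdef
  have memΔ : ∀ q, q ∈ Δ ↔ ∃ h : H, h • a = q := fun q => by
    rw [hΔdef, Set.mem_toFinset, MulAction.mem_orbit_iff]
  have haΔ : a ∈ Δ := (memΔ a).2 ⟨1, one_smul _ _⟩
  have hHΔ : ∀ g ∈ H, g • Δ = Δ := fun g hg => by
    refine eq_of_subset_of_card_le (fun q hq => ?_) (by rw [card_smul_finset])
    obtain ⟨c, hc, rfl⟩ := mem_smul_finset.1 hq
    obtain ⟨h, rfl⟩ := (memΔ c).1 hc
    exact (memΔ _).2 ⟨⟨g, hg⟩ * h, mul_smul _ _ _⟩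
  have htwo : 2 ≤ Δ.card := by
    obtain ⟨h, hh⟩ := hfix a
    exact one_lt_card.2 ⟨a, haΔ, h • a, (memΔ _).2 ⟨h, rfl⟩, hh.symm⟩
  have hlt : Δ.card < Fintype.card Ω := by
    refine card_lt_iff_ne_univ _ |>.2 fun h => hnt ⟨fun p q => ?_⟩
    obtain ⟨h₁, rfl⟩ := (memΔ p).1 (h ▸ mem_univ p)
    obtain ⟨h₂, rfl⟩ := (memΔ q).1 (h ▸ mem_univ q)
    exact ⟨h₂ * h₁⁻¹, by rw [mul_smul, inv_smul_smul]⟩
  -- the design
  set 𝔅 : Finset (Finset Ω) := (univ : Finset G).image fun g => g • Δ with h𝔅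
  have mem𝔅 : ∀ B, B ∈ 𝔅 ↔ ∃ g : G, g • Δ = B := fun B => by simp [h𝔅]
  have hinv : ∀ g : G, ∀ B ∈ 𝔅, g • B ∈ 𝔅 := fun g B hB => by
    obtain ⟨g', rfl⟩ := (mem𝔅 B).1 hB
    exact (mem𝔅 _).2 ⟨g * g', mul_smul _ _ _⟩
  have hle : H ≤ MulAction.stabilizer G Δ := fun g hg => hHΔ g hg
  have hcard𝔅 : 𝔅.card = (MulAction.stabilizer G Δ).index := by
    rw [MulAction.index_stabilizer, ← Set.ncard_coe_finset]
    congr 1
    ext B
    rw [mem_coe, mem𝔅, MulAction.mem_orbit_iff]
  have hpair : ∀ p q p' q' : Ω, p ≠ q → p' ≠ q' →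
      (𝔅.filter fun B => p ∈ B ∧ q ∈ B).card ≤ (𝔅.filter fun B => p' ∈ B ∧ q' ∈ B).card := by
    intro p q p' q' h h'
    obtain ⟨g, rfl, rfl⟩ := h2' p q p' q' h h'
    refine card_le_card_of_injOn (fun B => g • B) (fun B hB => ?_) fun B _ B' _ e => smul_left_cancel g e
    simp only [mem_coe, mem_filter] at hB ⊢
    exact ⟨hinv g B hB.1, smul_mem_smul_finset hB.2.1, smul_mem_smul_finset hB.2.2⟩
  obtain ⟨p₀, hp₀, q₀, hq₀, hpq₀⟩ := one_lt_card.1 htwo
  let D : Des Ω :=
    { blocks := 𝔅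
      k := Δ.card
      l := (𝔅.filter fun B => p₀ ∈ B ∧ q₀ ∈ B).card
      card_block := fun B hB => by
        obtain ⟨g, rfl⟩ := (mem𝔅 B).1 hB
        exact card_smul_finset g Δ
      pair := fun p q h => le_antisymm (hpair p q p₀ q₀ h hpq₀) (hpair p₀ q₀ p q hpq₀ h)
      two_le := htwo
      k_lt := hlt
      nonempty := ⟨Δ, (mem𝔅 Δ).2 ⟨1, one_smul _ _⟩⟩
      card_le := by
        rw [hcard𝔅, ← Nat.card_eq_fintype_card, ← hidx]
        exact Subgroup.index_antitone hle }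
  have hstab : ∀ g : G, g • Δ = Δ → g ∈ H := by
    have h1 : (MulAction.stabilizer G Δ).index = H.index := by
      rw [← hcard𝔅, hidx, Nat.card_eq_fintype_card]; exact D.card_blocks
    have h2c := Subgroup.card_mul_index (MulAction.stabilizer G Δ)
    rw [h1, ← Subgroup.card_mul_index H] at h2c
    have hc := Nat.eq_of_mul_eq_mul_right (Nat.pos_of_ne_zero Subgroup.index_ne_zero_of_finite) h2c
    intro g hg
    rw [Subgroup.eq_of_le_of_card_ge hle hc.le]
    exact hg
  -- two orbits on ordered pairs of blocks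
  let L := {B : Finset Ω // B ∈ 𝔅}
  letI : MulAction G L :=
    { smul := fun g B => ⟨g • B.1, hinv g _ B.2⟩
      one_smul := fun B => Subtype.ext (one_smul G B.1)
      mul_smul := fun g g' B => Subtype.ext (mul_smul g g' B.1) }
  have hsmulL : ∀ (g : G) (B : L), (g • B).1 = g • B.1 := fun _ _ => rfl
  have hfixcount : ∀ g : G, Fintype.card (MulAction.fixedBy (L × L) g)
      = Fintype.card (MulAction.fixedBy (Ω × Ω) g) := by
    intro g
    have e1 : Fintype.card (MulAction.fixedBy L g) = Fintype.card (MulAction.fixedBy Ω g) := by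
      have h := D.fix_eq g (hinv g)
      rw [← Fintype.card_coe, ← Fintype.card_coe] at h
      refine (Fintype.card_congr ?_).trans (h.trans (Fintype.card_congr ?_))
      · exact
          { toFun := fun B => ⟨B.1.1, mem_filter.2 ⟨B.1.2, congrArg Subtype.val B.2⟩⟩
            invFun := fun B => ⟨⟨B.1, (mem_filter.1 B.2).1⟩, Subtype.ext (mem_filter.1 B.2).2⟩
            left_inv := fun _ => rfl
            right_inv := fun _ => rfl }
      · exact Equiv.subtypeEquivRight fun p => by simp [MulAction.mem_fixedBy]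
    have e2 : ∀ (Z : Type _) [Fintype Z] [DecidableEq Z] [MulAction G Z],
        Fintype.card (MulAction.fixedBy (Z × Z) g)
          = Fintype.card (MulAction.fixedBy Z g) * Fintype.card (MulAction.fixedBy Z g) := by
      intro Z _ _ _
      rw [← Fintype.card_prod]
      exact Fintype.card_congr
        { toFun := fun z => (⟨z.1.1, congrArg Prod.fst z.2⟩, ⟨z.1.2, congrArg Prod.snd z.2⟩)
          invFun := fun z => ⟨(z.1.1, z.2.1), Prod.ext z.1.2 z.2.2⟩
          left_inv := fun _ => rfl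
          right_inv := fun _ => rfl }
    rw [e2 L, e2 Ω, e1]
  have horb : Fintype.card (Quotient (MulAction.orbitRel G (L × L)))
      = Fintype.card (Quotient (MulAction.orbitRel G (Ω × Ω))) := by
    refine Nat.eq_of_mul_eq_mul_right (Fintype.card_pos (α := G)) ?_
    rw [← MulAction.sum_card_fixedBy_eq_card_orbits_mul_card_group,
      ← MulAction.sum_card_fixedBy_eq_card_orbits_mul_card_group]
    exact sum_congr rfl fun g _ => hfixcount g
  have horb2 : Fintype.card (Quotient (MulAction.orbitRel G (L × L))) ≤ 2 := by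
    rw [horb, ← Fintype.card_bool]
    refine Fintype.card_le_of_surjective
      (fun b : Bool => if b then Quotient.mk'' (p₀, p₀) else Quotient.mk'' (p₀, q₀)) ?_
    intro z
    induction z using Quotient.inductionOn' with
    | _ z =>
      obtain ⟨p, q⟩ := z
      by_cases h : p = q
      · subst h
        obtain ⟨t, ht⟩ : ∃ t, t ≠ p := by
          by_cases e : p₀ = p
          · exact ⟨q₀, e ▸ hpq₀.symm⟩
          · exact ⟨p₀, e⟩
        obtain ⟨g, hg, -⟩ := h2' p t p₀ q₀ ht.symm hpq₀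
        exact ⟨true, Quotient.sound' ⟨g, Prod.ext hg hg⟩⟩
      · obtain ⟨g, hg1, hg2⟩ := h2' p q p₀ q₀ h hpq₀
        exact ⟨false, Quotient.sound' ⟨g, Prod.ext hg1 hg2⟩⟩
  have hbtrans : ∀ A B C E : Finset Ω, A ∈ 𝔅 → B ∈ 𝔅 → C ∈ 𝔅 → E ∈ 𝔅 → A ≠ B → C ≠ E →
      ∃ g : G, g • A = C ∧ g • B = E := by
    intro A B C E hA hB hC hE hAB hCE
    by_contra hno
    let f : Fin 3 → Quotient (MulAction.orbitRel G (L × L)) :=
      ![Quotient.mk'' (⟨A, hA⟩, ⟨A, hA⟩), Quotient.mk'' (⟨A, hA⟩, ⟨B, hB⟩),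
        Quotient.mk'' (⟨C, hC⟩, ⟨E, hE⟩)]
    have hdiag : ∀ {u v x : L}, (Quotient.mk'' (u, u) : Quotient (MulAction.orbitRel G (L × L)))
        = Quotient.mk'' (v, x) → v = x := by
      intro u v x h
      obtain ⟨g, hg⟩ := Quotient.eq''.1 h.symm
      exact ((congrArg Prod.fst hg).symm.trans (congrArg Prod.snd hg))
    have n01 : f 0 ≠ f 1 := fun h => hAB (congrArg Subtype.val (hdiag h))
    have n02 : f 0 ≠ f 2 := fun h => hCE (congrArg Subtype.val (hdiag h))
    have n12 : f 1 ≠ f 2 := fun h => by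
      obtain ⟨g, hg⟩ := Quotient.eq''.1 h.symm
      exact hno ⟨g, congrArg (fun z : L × L => z.1.1) hg, congrArg (fun z : L × L => z.2.1) hg⟩
    have hf : Function.Injective f := by
      intro i j h
      fin_cases i <;> fin_cases j <;>
        first | rfl | exact absurd h n01 | exact absurd h.symm n01 | exact absurd h n02 |
          exact absurd h.symm n02 | exact absurd h n12 | exact absurd h.symm n12
    have := Fintype.card_le_of_injective f hf
    rw [Fintype.card_fin] at this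
    omega
  exact ⟨⟨D, hinv, h2', hbtrans, Δ, (mem𝔅 Δ).2 ⟨1, one_smul _ _⟩, memΔ, hHΔ, hstab⟩⟩

end Cfsg.Agent.Perm.AxialDesign
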