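import Mathlib.GroupTheory.GroupAction.MultipleTransitivity
import Cfsg.Agent.Lib.Perm.AxialDesign.Pre
import Cfsg.Agent.Lib.Solv.Basic
import Cfsg.Agent.Lib.Perm.AxialDesign.Main

/-!
The configuration of a two-transitive group with an intransitive subgroup of index the degree.
-/

set_option autoImplicit false

open scoped Pointwise
open Finset

namespace Cfsg.Agent.Perm.AxialDesign

variable {G Ω : Type*} [Group G] [Finite G] [MulAction G Ω] [FaithfulSMul G Ω] [Finite Ω]

/-- A two-transitive group with an intransitive subgroup `H` of index the degree, whose orbit `Δ`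
is fixed pointwise by a nontrivial solvable normal subgroup of `H`, is a projective special
linear group extended by automorphisms. -/
theorem of_solvable (h2 : MulAction.IsMultiplyPretransitive G Ω 2) (H : Subgroup G)
    (hidx : H.index = Nat.card Ω) (hnt : ¬ MulAction.IsPretransitive H Ω)
    (hfix : ∀ a : Ω, ∃ h : H, h • a ≠ a) (N : Subgroup H) [hN : N.Normal] (hN1 : N ≠ ⊥)
    (hsol : Group.IsSolvable N) (a : Ω) (ha : ∀ x ∈ N, x • a = a) :
    ∃ (m : ℕ) (F : Type) (_ : Field F) (_ : Fintype F), 2 ≤ m ∧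
      Nat.card Ω = (Fintype.card F ^ (m + 1) - 1) / (Fintype.card F - 1) ∧
      ∃ N : Subgroup G, N.Normal ∧
        Nonempty (N ≃* Matrix.ProjectiveSpecialLinearGroup (Fin (m + 1)) F) ∧
        Subgroup.centralizer (N : Set G) = ⊥ := by
  classical
  letI : Fintype Ω := Fintype.ofFinite Ω
  obtain ⟨P⟩ := exists_pre h2 H hidx hnt hfix a
  -- the minimal normal subgroup
  obtain ⟨K, hKn, hK1, hKN, hKmin⟩ := Solv.exists_minimal_normal_le N hN1
  obtain ⟨hKc, p, hp, -, hKp⟩ :=
    Solv.minimal_normal_elementaryAbelian K (Solv.isSolvable_of_le hKN hsol) hK1 hKmin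
  let C : Cfg G Ω :=
    { D := P.D
      inv := P.inv
      faithful := fun g hg => eq_of_smul_eq_smul (α := Ω) fun r => by rw [hg r, one_smul]
      trans2 := P.trans2
      btrans := P.btrans
      Δ := P.Δ
      hΔ := P.hΔ
      trans := fun c hc c' hc' => by
        obtain ⟨h₁, rfl⟩ := (P.memΔ c).1 hc
        obtain ⟨h₂, rfl⟩ := (P.memΔ c').1 hc'
        refine ⟨(h₂ * h₁⁻¹ : H), P.hHΔ _ (h₂ * h₁⁻¹).2, ?_⟩
        show (h₂ * h₁⁻¹) • h₁ • a = h₂ • a
        rw [mul_smul, inv_smul_smul]
      move := fun r => by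
        obtain ⟨h, hh⟩ := hfix r
        exact ⟨h, P.hHΔ _ h.2, hh⟩
      X := K.map H.subtype
      X_ne := fun h => hK1 ((Subgroup.map_eq_bot_iff_of_injective _ H.subtype_injective).1 h)
      X_comm := by
        rintro _ ⟨x, hx, rfl⟩ _ ⟨z, hz, rfl⟩
        haveI := hKc
        exact congrArg (fun t : K => ((t : H) : G)) (mul_comm' (⟨x, hx⟩ : K) ⟨z, hz⟩)
      X_normal := fun g hg => by
        rintro _ ⟨x, hx, rfl⟩
        exact ⟨⟨g, P.hstab g hg⟩ * x * ⟨g, P.hstab g hg⟩⁻¹, hKn.conj_mem x hx _, rfl⟩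
      X_fix := by
        rintro _ ⟨x, hx, rfl⟩ c hc
        obtain ⟨h, rfl⟩ := (P.memΔ c).1 hc
        have h1 := ha _ (hKN (hKn.conj_mem x hx h⁻¹))
        show x • h • a = h • a
        rw [inv_inv, mul_smul, mul_smul, inv_smul_eq_iff] at h1
        exact h1
      X_min := fun M hM hMn => by
        have hMH : M ≤ H := hM.trans (Subgroup.map_subtype_le K)
        have hsub : M.subgroupOf H ≤ K := fun x hx => by
          obtain ⟨z, hz, he⟩ := hM hx
          exact H.subtype_injective he ▸ hz
        have hnorm : (M.subgroupOf H).Normal :=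
          ⟨fun x hx h => hMn h (P.hHΔ _ h.2) _ hx⟩
        have e : M = (M.subgroupOf H).map H.subtype := by
          rw [Subgroup.map_subgroupOf_eq_of_le hMH]
        rcases hKmin _ hnorm hsub with h | h
        · left; rw [e, h, Subgroup.map_bot]
        · right; rw [e, h]
      pp := p
      pp_prime := hp
      X_pgroup := hKp.map _ }
  exact main C

end Cfsg.Agent.Perm.AxialDesign
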