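import Cfsg.Agent.Lib.Perm.AxialDesign.Axial

/-!
The automorphisms with axis another block act on the abelian group as transvections.
-/

set_option autoImplicit false

open scoped Pointwise
open Finset

namespace Cfsg.Agent.Perm.AxialDesign

variable {G Ω : Type*} [Group G] [Finite G] [DecidableEq G] [Fintype Ω] [DecidableEq Ω] [MulAction G Ω]

namespace Cfg

variable (C : Cfg G Ω)

theorem exists_outside_mem {B : Finset Ω} (hB : B ∈ C.D.blocks) (hne : B ≠ C.Δ) :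
    ∃ p ∈ B, p ∉ C.Δ := by
  by_contra h
  push_neg at h
  exact hne (eq_of_subset_of_card_le h (by rw [C.D.card_block _ hB, C.D.card_block _ C.hΔ]))

/-- Conjugates of `X` with axis `B` that stabilise `Δ`. -/
structure IsShear (B : Finset Ω) (g y : G) : Prop where
  mem : g⁻¹ * y * g ∈ C.U B

variable {C}

theorem IsShear.fixΔ {B : Finset Ω} {g y : G} (hgΔ : g • C.Δ = B) (hgB : g • B = C.Δ)
    (h : C.IsShear B g y) : y • C.Δ = C.Δ := by
  have h2 := (C.mem_U.1 h.mem).2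
  rw [mul_smul, mul_smul, hgB, inv_smul_eq_iff, hgB] at h2
  exact h2

theorem IsShear.fixB {B : Finset Ω} {g y : G} (hgΔ : g • C.Δ = B)
    (h : C.IsShear B g y) : ∀ b ∈ B, y • b = b := by
  intro b hb
  rw [← hgΔ] at hb
  obtain ⟨c, hc, rfl⟩ := mem_smul_finset.1 hb
  have h2 := C.X_fix _ (C.mem_U.1 h.mem).1 c hc
  rwa [mul_smul, mul_smul, inv_smul_eq_iff] at h2

theorem IsShear.commute {B : Finset Ω} (hB : B ∈ C.D.blocks) (hne : B ≠ C.Δ) {g y : G}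
    (hgΔ : g • C.Δ = B) (hgB : g • B = C.Δ) (h : C.IsShear B g y) {x : G} (hx : x ∈ C.U B) :
    x * y = y * x := by
  obtain ⟨hxX, hxB⟩ := C.mem_U.1 hx
  set c := x * y * x⁻¹ * y⁻¹ with hc
  have hcX : c ∈ C.X := by
    have : c = x * (y * x⁻¹ * y⁻¹) := by rw [hc]; group
    rw [this]
    exact C.X.mul_mem hxX (C.X_normal y (h.fixΔ hgΔ hgB) _ (C.X.inv_mem hxX))
  have hconj : g⁻¹ * c * g ∈ C.X := by
    have hu := (C.mem_U.1 h.mem).1
    have : g⁻¹ * c * g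
        = (g⁻¹ * x * g) * (g⁻¹ * y * g) * (g⁻¹ * x * g)⁻¹ * (g⁻¹ * y * g)⁻¹ := by rw [hc]; group
    rw [this]
    refine C.X.mul_mem (C.X_normal _ ?_ _ hu) (C.X.inv_mem hu)
    rw [mul_smul, mul_smul, hgΔ, hxB, ← hgΔ, inv_smul_smul]
  obtain ⟨p, hpB, hp⟩ := C.exists_outside_mem hB hne
  have hfix : c • p = p := by
    rw [← hgΔ] at hpB
    obtain ⟨d, hd, rfl⟩ := mem_smul_finset.1 hpB
    have h2 := C.X_fix _ hconj d hd
    rwa [mul_smul, mul_smul, inv_smul_eq_iff] at h2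
  have := C.semireg hcX hp hfix
  rw [hc, mul_inv_eq_one, mul_inv_eq_iff_eq_mul] at this
  exact this

theorem IsShear.centralizer {B : Finset Ω} {g y : G}
    (hgΔ : g • C.Δ = B) (h : C.IsShear B g y) (hy : y ≠ 1) {w : G} (hw : w ∈ C.X)
    (hcomm : y * w = w * y) : w ∈ C.U B := by
  refine C.mem_U.2 ⟨hw, ?_⟩
  refine eq_of_subset_of_card_le (fun q hq => ?_) (by rw [card_smul_finset])
  obtain ⟨b, hb, rfl⟩ := mem_smul_finset.1 hq
  have hfix : y • (w • b) = w • b := by rw [← mul_smul, hcomm, mul_smul, h.fixB hgΔ b hb]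
  by_contra hnot
  have hout : g⁻¹ • (w • b) ∉ C.Δ := fun hm => hnot (by
    rw [← hgΔ]; exact mem_smul_finset.2 ⟨_, hm, smul_inv_smul _ _⟩)
  have h1 := C.semireg (C.mem_U.1 h.mem).1 hout (by rw [mul_smul, mul_smul, smul_inv_smul, hfix])
  apply hy
  calc y = g * (g⁻¹ * y * g) * g⁻¹ := by group
    _ = 1 := by rw [h1]; group

variable (C)

/-- Conjugating by shears with axis `B` moves an element outside the stabiliser of `B` through
its whole coset. -/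
theorem shear {B : Finset Ω} (hB : B ∈ C.D.blocks) (hne : B ≠ C.Δ) {v : G} (hv : v ∈ C.X)
    (hvU : v ∉ C.U B) {u : G} (hu : u ∈ C.U B) :
    ∃ y : G, y • C.Δ = C.Δ ∧ (∀ b ∈ B, y • b = b) ∧ y * v * y⁻¹ = v * u := by
  obtain ⟨g, hgΔ, hgB⟩ := C.btrans C.Δ B B C.Δ C.hΔ hB hB C.hΔ (Ne.symm hne) hne
  set Y : Subgroup G := (C.U B).map (MulAut.conj g).toMonoidHom with hY
  have hmemY : ∀ y, y ∈ Y ↔ C.IsShear B g y := by
    intro y
    rw [hY, Subgroup.mem_map]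
    constructor
    · rintro ⟨x, hx, rfl⟩
      exact ⟨by simpa [MulAut.conj_apply, mul_assoc] using hx⟩
    · intro h
      exact ⟨_, h.mem, by simp [MulAut.conj_apply, mul_assoc]⟩
  have hcardY : Nat.card Y = C.a := by
    rw [hY, Subgroup.card_map_of_injective (MulAut.conj g).injective, C.card_U hB hne]
  have hYcomm : ∀ y ∈ Y, ∀ y' ∈ Y, y * y' = y' * y := by
    intro y hy y' hy'
    have h1 := C.X_comm _ (C.mem_U.1 ((hmemY y).1 hy).mem).1 _ (C.mem_U.1 ((hmemY y').1 hy').mem).1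
    calc y * y' = g * ((g⁻¹ * y * g) * (g⁻¹ * y' * g)) * g⁻¹ := by group
      _ = g * ((g⁻¹ * y' * g) * (g⁻¹ * y * g)) * g⁻¹ := by rw [h1]
      _ = y' * y := by group
  -- the endomorphism of `X` induced by a shear
  let f : ∀ y : G, C.IsShear B g y → C.X →* C.X := fun y hy =>
    { toFun := fun w => ⟨w.1⁻¹ * (y * w.1 * y⁻¹),
        C.X.mul_mem (C.X.inv_mem w.2) (C.X_normal y (hy.fixΔ hgΔ hgB) _ w.2)⟩
      map_one' := by ext; simp
      map_mul' := fun w w' => by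
        ext
        show (w.1 * w'.1)⁻¹ * (y * (w.1 * w'.1) * y⁻¹)
          = w.1⁻¹ * (y * w.1 * y⁻¹) * (w'.1⁻¹ * (y * w'.1 * y⁻¹))
        have h1 := C.X_comm _ (C.X.inv_mem w'.2) _
          (C.X.mul_mem (C.X.inv_mem w.2) (C.X_normal y (hy.fixΔ hgΔ hgB) _ w.2))
        calc (w.1 * w'.1)⁻¹ * (y * (w.1 * w'.1) * y⁻¹)
            = w'.1⁻¹ * (w.1⁻¹ * (y * w.1 * y⁻¹)) * (y * w'.1 * y⁻¹) := by group
          _ = (w.1⁻¹ * (y * w.1 * y⁻¹)) * w'.1⁻¹ * (y * w'.1 * y⁻¹) := by rw [h1]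
          _ = _ := by group }
  have fval : ∀ y hy (w : C.X), ((f y hy w : C.X) : G) = w.1⁻¹ * (y * w.1 * y⁻¹) := fun _ _ _ => rfl
  have hmove : ∀ y ∈ Y, ∀ y' ∈ Y, ∀ w ∈ C.X, w ∉ C.U B →
      y * w * y⁻¹ = y' * w * y'⁻¹ → y = y' := by
    intro y hy y' hy' w hw hwU he
    by_contra hne'
    have h1 : C.IsShear B g (y'⁻¹ * y) := (hmemY _).1 (Y.mul_mem (Y.inv_mem hy') hy)
    refine hwU (h1.centralizer hgΔ (fun h => hne' (inv_mul_eq_one.1 h).symm) hw ?_)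
    calc y'⁻¹ * y * w = y'⁻¹ * (y * w * y⁻¹) * y := by group
      _ = y'⁻¹ * (y' * w * y'⁻¹) * y := by rw [he]
      _ = w * (y'⁻¹ * y) := by group
  have himage : ∀ y ∈ Y, ∀ w ∈ C.X, w⁻¹ * (y * w * y⁻¹) ∈ C.U B := by
    intro y hy w₀ hw₀
    have hys := (hmemY y).1 hy
    by_cases hy1 : y = 1
    · subst hy1; simp [(C.U B).one_mem]
    by_contra hbad
    set R : Subgroup C.X := (f y hys).range with hR
    have hker : (f y hys).ker = (C.U B).subgroupOf C.X := by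
      ext w
      rw [MonoidHom.mem_ker, Subgroup.mem_subgroupOf]
      constructor
      · intro h
        refine hys.centralizer hgΔ hy1 w.2 ?_
        have h' : w.1⁻¹ * (y * w.1 * y⁻¹) = 1 := congrArg Subtype.val h
        rw [inv_mul_eq_one] at h'
        calc y * w.1 = (y * w.1 * y⁻¹) * y := by group
          _ = w.1 * y := by rw [← h']
      · intro h
        ext
        show w.1⁻¹ * (y * w.1 * y⁻¹) = 1
        rw [← hys.commute hB hne hgΔ hgB h]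
        group
    have hRcard : Nat.card R = C.s := by
      have h1 := Subgroup.card_mul_index (f y hys).ker
      rw [Subgroup.index_ker, hker, ← hR,
        Nat.card_congr (Subgroup.subgroupOfEquivOfLe (C.U_le B)).toEquiv, C.card_U hB hne] at h1
      have h2 : C.a * Nat.card R = C.a * C.s := by rw [h1, ← C.e_eq]; rfl
      exact Nat.eq_of_mul_eq_mul_left (by have := C.a_two; omega) h2
    set w : C.X := f y hys ⟨w₀, hw₀⟩ with hw
    have hwU : w.1 ∉ C.U B := hbad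
    have hwR : w ∈ R := ⟨_, rfl⟩
    let ψ : Y → R := fun y' => ⟨f y'.1 ((hmemY _).1 y'.2) w, by
      refine ⟨f y'.1 ((hmemY _).1 y'.2) ⟨w₀, hw₀⟩, ?_⟩
      ext
      simp only [hw, fval]
      have hc := hYcomm y hy y'.1 y'.2
      have hc' : y⁻¹ * y'.1⁻¹ = y'.1⁻¹ * y⁻¹ := by rw [← mul_inv_rev, ← mul_inv_rev, hc]
      have hm : (w₀⁻¹ * (y'.1 * w₀ * y'.1⁻¹))⁻¹ * (y * (w₀⁻¹ * (y'.1 * w₀ * y'.1⁻¹)) * y⁻¹)
          = (y'.1 * w₀⁻¹ * y'.1⁻¹ * w₀) * (y * w₀⁻¹ * y⁻¹) * ((y * y'.1) * w₀ * (y'.1⁻¹ * y⁻¹)) := by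
        group
      have hm' : (w₀⁻¹ * (y * w₀ * y⁻¹))⁻¹ * (y'.1 * (w₀⁻¹ * (y * w₀ * y⁻¹)) * y'.1⁻¹)
          = (y * w₀⁻¹ * y⁻¹ * w₀) * (y'.1 * w₀⁻¹ * y'.1⁻¹) * ((y'.1 * y) * w₀ * (y⁻¹ * y'.1⁻¹)) := by
        group
      rw [hm, hm', hc, hc']
      congr 1
      have n1 := C.X_normal _ (((hmemY y).1 hy).fixΔ hgΔ hgB) _ (C.X.inv_mem hw₀)
      have n2 := C.X_normal _ (((hmemY _).1 y'.2).fixΔ hgΔ hgB) _ (C.X.inv_mem hw₀)
      rw [mul_assoc (y'.1 * w₀⁻¹ * y'.1⁻¹) w₀, C.X_comm w₀ hw₀ _ n1, C.X_comm _ n2 _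
        (C.X.mul_mem n1 hw₀), mul_assoc]⟩
    have hinj : Function.Injective ψ := fun y₁ y₂ h => by
      refine Subtype.ext (hmove _ y₁.2 _ y₂.2 _ w.2 hwU ?_)
      have h' := congrArg (fun z : R => ((z : C.X) : G)) h
      exact mul_left_cancel (a := (w : G)⁻¹) h'
    have hsurj : Function.Surjective ψ := by
      have hle : Nat.card Y ≤ Nat.card R := Nat.card_le_card_of_injective ψ hinj
      exact ((Nat.bijective_iff_injective_and_card ψ).2 ⟨hinj,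
        le_antisymm hle (by rw [hRcard, hcardY]; exact C.s_le_a)⟩).2
    obtain ⟨y', hy'⟩ := hsurj ⟨w⁻¹, R.inv_mem hwR⟩
    have h' : (w : G)⁻¹ * (y'.1 * (w : G) * y'.1⁻¹) = (w : G)⁻¹ :=
      congrArg (fun z : R => ((z : C.X) : G)) hy'
    have h'' : y'.1 * (w : G) * y'.1⁻¹ = 1 := by
      rwa [mul_eq_left] at h'
    apply hwU
    rw [show (w : G) = 1 from by
      calc (w : G) = y'.1⁻¹ * (y'.1 * (w : G) * y'.1⁻¹) * y'.1 := by group
        _ = 1 := by rw [h'']; group]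
    exact (C.U B).one_mem
  let φ : Y → C.U B := fun y => ⟨v⁻¹ * (y.1 * v * y.1⁻¹), himage y.1 y.2 v hv⟩
  have hφ : Function.Bijective φ := by
    refine (Nat.bijective_iff_injective_and_card φ).2 ⟨fun y y' h => ?_, by
      rw [hcardY, C.card_U hB hne]⟩
    have h' := congrArg Subtype.val h
    exact Subtype.ext (hmove _ y.2 _ y'.2 v hv hvU (mul_left_cancel (a := v⁻¹) h'))
  obtain ⟨y, hy⟩ := hφ.2 ⟨u, hu⟩
  have hys := (hmemY _).1 y.2
  refine ⟨y.1, hys.fixΔ hgΔ hgB, hys.fixB hgΔ, ?_⟩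
  have h' : v⁻¹ * (y.1 * v * y.1⁻¹) = u := congrArg Subtype.val hy
  rwa [inv_mul_eq_iff_eq_mul] at h'

end Cfg

end Cfsg.Agent.Perm.AxialDesign
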