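import Mathlib.GroupTheory.Nilpotent
import Cfsg.Agent.Lib.Solv.FrobDiv
import Cfsg.Agent.Lib.Solv.Frobenius
import Cfsg.Agent.Lib.Perm.AxialDesign.Pre

/-!
A group fixing a block pointwise and semiregular outside it, normalised by the block stabiliser,
has prime power order; in general the pointwise stabiliser of a block contains such a group.
-/

set_option autoImplicit false

open scoped Pointwise
open Finset

namespace Cfsg.Agent.Perm.AxialDesign

/-- Number theoretic core: if `(e - 1) / gcd (e - 1) A` divides `t`, if `t < e - 1` and `n ∣ e` divides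
`t + 1`, then `n ≤ gcd (e - 1) A`. -/
theorem le_gcd_of_dvd {e A n t : ℕ} (he : 2 ≤ e) (hd : e - 1 ∣ A * t) (ht : t < e - 1)
    (hne : n ∣ e) (hnt : n ∣ t + 1) : n ≤ Nat.gcd (e - 1) A := by
  set E := e - 1 with hE
  set g := Nat.gcd E A with hg
  have hgpos : 0 < g := Nat.gcd_pos_of_pos_left A (by omega)
  obtain ⟨E', hE'⟩ := Nat.gcd_dvd_left E A
  obtain ⟨A', hA'⟩ := Nat.gcd_dvd_right E A
  rw [← hg] at hE' hA'
  have hcop : Nat.Coprime E' A' := by
    have h := Nat.coprime_div_gcd_div_gcd (m := E) (n := A) hgpos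
    have e1 : E / g = E' := by rw [hE', Nat.mul_div_cancel_left _ hgpos]
    have e2 : A / g = A' := by rw [hA', Nat.mul_div_cancel_left _ hgpos]
    rwa [← hg, e1, e2] at h
  have hd' : E' ∣ A' * t := by
    rw [hE', hA', mul_assoc] at hd
    exact Nat.dvd_of_mul_dvd_mul_left hgpos hd
  obtain ⟨j, hj⟩ := hcop.dvd_of_dvd_mul_left hd'
  have hjg : j < g := by
    rw [hj, hE', mul_comm g E'] at ht
    exact Nat.lt_of_mul_lt_mul_left ht
  have hne' : n ∣ g * E' + 1 := by
    rw [← hE']; rwa [show E + 1 = e by omega]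
  have hnE : Nat.Coprime n E' := by
    refine Nat.Coprime.coprime_dvd_left hne' ?_
    rw [Nat.coprime_comm, mul_comm, add_comm, Nat.coprime_add_mul_left_right]
    exact Nat.coprime_one_right _
  rw [hj] at hnt
  have hdiff : n ∣ E' * (g - j) := by
    have h := Nat.dvd_sub hne' hnt
    rwa [show g * E' + 1 - (E' * j + 1) = E' * (g - j) by
      rw [Nat.mul_sub, mul_comm g E']; omega] at h
  have := Nat.le_of_dvd (by omega) (hnE.dvd_of_dvd_mul_left hdiff)
  omega

theorem gcd_sq_lt {a e : ℕ} (ha : 2 ≤ a) (hae : a ∣ e) (hlt : a < e) :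
    Nat.gcd (e - 1) (a - 1) * Nat.gcd (e - 1) (a - 1) < e := by
  obtain ⟨s, rfl⟩ := hae
  have hs : 2 ≤ s := by
    rcases s with _ | _ | s <;> simp_all
  set g := Nat.gcd (a * s - 1) (a - 1)
  have h1 : g ∣ a * s - 1 := Nat.gcd_dvd_left _ _
  have h2 : g ∣ a - 1 := Nat.gcd_dvd_right _ _
  have h3 : g ∣ s - 1 := by
    have h := Nat.dvd_sub h1 (h2.mul_left s)
    rwa [show a * s - 1 - s * (a - 1) = s - 1 by
      rw [Nat.mul_sub, mul_one, mul_comm s a]
      have : s ≤ a * s := Nat.le_mul_of_pos_left _ (by omega)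
      omega] at h
  have g1 : g ≤ a - 1 := Nat.le_of_dvd (by omega) h2
  have g2 : g ≤ s - 1 := Nat.le_of_dvd (by omega) h3
  exact lt_of_le_of_lt (Nat.mul_le_mul g1 g2)
    (Nat.mul_lt_mul_of_lt_of_le (by omega) (by omega) (by omega))

variable {G Ω : Type*} [Group G] [Finite G] [MulAction G Ω] [Fintype Ω] [DecidableEq Ω]
  {H : Subgroup G} {a : Ω}

/-- A semiregular axial group normal under the block stabiliser has prime power order. -/
theorem Pre.isPGroup (P : Pre H a) (X : Subgroup G) (hX : X ≠ ⊥)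
    (hnorm : ∀ g ∈ H, ∀ x ∈ X, g * x * g⁻¹ ∈ X) (hax : ∀ x ∈ X, ∀ c ∈ P.Δ, x • c = c)
    (hsemi : ∀ x ∈ X, ∀ p, p ∉ P.Δ → x • p = p → x = 1) :
    ∃ q : ℕ, q.Prime ∧ IsPGroup q X := by
  classical
  set D := P.D
  set Bs := D.blocks.erase P.Δ with hBs
  have hk := D.two_le
  have hkn := D.k_lt
  have hBcard : Bs.card = Fintype.card Ω - 1 := by
    rw [hBs, card_erase_of_mem P.hΔ, D.card_blocks]
  obtain ⟨B₀, hB₀⟩ : Bs.Nonempty := card_pos.1 (by omega)
  have hxΔ : ∀ x ∈ X, x • P.Δ = P.Δ := fun x hx => by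
    refine eq_of_subset_of_card_le (fun q hq => ?_) (by rw [card_smul_finset])
    obtain ⟨c, hc, rfl⟩ := mem_smul_finset.1 hq
    rwa [hax x hx c hc]
  -- every nontrivial element fixes `k - 1` blocks other than `Δ`
  have hfixed : ∀ x ∈ X, x ≠ 1 → (Bs.filter fun B => x • B = B).card = D.k - 1 := by
    intro x hx hx1
    have h := D.fix_eq x (P.inv x)
    have hp : (univ.filter fun p : Ω => x • p = p) = P.Δ := by
      ext p
      simp only [mem_filter, mem_univ, true_and]
      exact ⟨fun hp => by_contra fun hpΔ => hx1 (hsemi x hx p hpΔ hp), hax x hx p⟩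
    rw [hp, D.card_block _ P.hΔ] at h
    rw [← h, hBs, filter_erase, card_erase_of_mem (by simp [P.hΔ, hxΔ x hx, D])]
  -- sets invariant under the block stabiliser
  have key : ∀ S : Finset G, (∀ x ∈ S, x ∈ X ∧ x ≠ 1) → (∀ g ∈ H, ∀ x ∈ S, g * x * g⁻¹ ∈ S) →
      S.card * (D.k - 1) = (Fintype.card Ω - 1) * (S.filter fun x => x • B₀ = B₀).card := by
    intro S hS hinv
    have h := sum_card_bipartiteAbove_eq_sum_card_bipartiteBelow
      (s := Bs) (t := S) (fun (B : Finset Ω) (x : G) => x • B = B)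
    have e1 : ∀ B ∈ Bs, (S.bipartiteAbove (fun (B : Finset Ω) (x : G) => x • B = B) B).card
        = (S.filter fun x => x • B₀ = B₀).card := by
      intro B hB
      rw [hBs, mem_erase] at hB
      have hB₀' := mem_erase.1 hB₀
      obtain ⟨g, hgΔ, hgB⟩ := P.btrans P.Δ B₀ P.Δ B P.hΔ hB₀'.2 P.hΔ hB.2 hB₀'.1.symm hB.1.symm
      have hgH := P.hstab g hgΔ
      symm
      refine card_bij (fun x _ => g * x * g⁻¹) (fun x hx => ?_) (fun x _ z _ e => by simpa using e)
        (fun x hx => ?_)
      · rw [mem_filter] at hx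
        simp only [bipartiteAbove, mem_filter]
        refine ⟨hinv g hgH x hx.1, ?_⟩
        rw [← hgB, mul_smul, mul_smul, inv_smul_smul, hx.2]
      · simp only [bipartiteAbove, mem_filter] at hx
        refine ⟨g⁻¹ * x * g, mem_filter.2 ⟨?_, ?_⟩, by group⟩
        · simpa using hinv g⁻¹ (H.inv_mem hgH) x hx.1
        · rw [mul_smul, mul_smul, hgB, hx.2, inv_smul_eq_iff, hgB]
    have e2 : ∀ x ∈ S, (Bs.bipartiteBelow (fun (B : Finset Ω) (x : G) => x • B = B) x).card
        = D.k - 1 := fun x hx => hfixed x (hS x hx).1 (hS x hx).2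
    rw [sum_congr rfl e1, sum_congr rfl e2, sum_const, sum_const, hBcard, smul_eq_mul,
      smul_eq_mul] at h
    exact h.symm
  letI : Fintype G := Fintype.ofFinite G
  -- the nonidentity elements of `X`
  set E : Finset G := univ.filter fun x => x ∈ X ∧ x ≠ 1 with hE
  have hcardE : E.card + 1 = Nat.card X := by
    have h1 : (univ.filter fun x : G => x ∈ X) = insert 1 E := by
      ext x
      simp only [hE, mem_filter, mem_univ, true_and, mem_insert]
      constructor
      · intro hx; exact or_iff_not_imp_left.2 fun h => ⟨hx, h⟩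
      · rintro (rfl | h); exacts [X.one_mem, h.1]
    have h2 := congrArg Finset.card h1
    rw [card_insert_of_notMem (by simp [hE]), ← Fintype.card_subtype, ← Nat.card_eq_fintype_card] at h2
    exact h2.symm
  have hkE := key E (fun x hx => (mem_filter.1 hx).2) (fun g hg x hx => by
    simp only [hE, mem_filter, mem_univ, true_and] at hx ⊢
    exact ⟨hnorm g hg x hx.1, fun h => hx.2 (by
      calc x = g⁻¹ * (g * x * g⁻¹) * g := by group
        _ = 1 := by rw [h]; group)⟩)
  set A := (E.filter fun x => x • B₀ = B₀).card with hA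
  have he : 2 ≤ Nat.card X := by
    haveI : Nontrivial X := (Subgroup.nontrivial_iff_ne_bot _).2 hX
    exact Finite.one_lt_card
  have hApos : 0 < A := by
    by_contra h
    have h0 : A = 0 := by omega
    rw [h0, mul_zero] at hkE
    have := Nat.mul_pos (show 0 < E.card by omega) (show 0 < D.k - 1 by omega)
    omega
  have hAlt : A < E.card := by
    by_contra h
    have h' : A = E.card := le_antisymm (card_filter_le _ _) (not_lt.1 h)
    rw [h', mul_comm] at hkE
    have := Nat.eq_of_mul_eq_mul_right (show 0 < E.card by omega) hkE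
    omega
  have hdvd : A + 1 ∣ Nat.card X := by
    have hU : Nat.card (X ⊓ MulAction.stabilizer G B₀ : Subgroup G) = A + 1 := by
      have h1 : (univ.filter fun x : G => x ∈ X ⊓ MulAction.stabilizer G B₀)
          = insert 1 (E.filter fun x => x • B₀ = B₀) := by
        ext x
        simp only [hE, mem_filter, mem_univ, true_and, mem_insert, Subgroup.mem_inf,
          MulAction.mem_stabilizer_iff]
        constructor
        · intro hx; exact or_iff_not_imp_left.2 fun h => ⟨⟨hx.1, h⟩, hx.2⟩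
        · rintro (rfl | h); exacts [⟨X.one_mem, one_smul _ _⟩, ⟨h.1.1, h.2⟩]
      have h2 := congrArg Finset.card h1
      rw [card_insert_of_notMem (by simp [hE]), ← Fintype.card_subtype,
        ← Nat.card_eq_fintype_card] at h2
      exact h2
    rw [← hU]
    exact Subgroup.card_dvd_of_le inf_le_left
  have hEe : E.card = Nat.card X - 1 := by omega
  -- elements killed by a proper prime part
  have bound : ∀ q : ℕ, q.Prime → q ∣ Nat.card X →
      Nat.card X / q ^ (Nat.card X).factorization q ≤ Nat.gcd (Nat.card X - 1) A := by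
    intro q hq hqe
    set n := Nat.card X / q ^ (Nat.card X).factorization q
    have hne : n ∣ Nat.card X := Nat.ordCompl_dvd _ q
    set S := E.filter fun x => x ^ n = 1 with hS
    have hkS := key S (fun x hx => (mem_filter.1 (mem_of_mem_filter x hx)).2) (fun g hg x hx => by
      simp only [hS, hE, mem_filter, mem_univ, true_and] at hx ⊢
      refine ⟨⟨hnorm g hg x hx.1.1, fun h => hx.1.2 ?_⟩, by rw [conj_pow, hx.2]; group⟩
      calc x = g⁻¹ * (g * x * g⁻¹) * g := by group
        _ = 1 := by rw [h]; group)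
    haveI := Fact.mk hq
    obtain ⟨z, hz⟩ := exists_prime_orderOf_dvd_card' (G := X) q hqe
    have hzn : ¬ q ∣ n := Nat.not_dvd_ordCompl hq (by omega)
    have hlt : S.card < E.card := by
      refine card_lt_card (filter_ssubset.2 ⟨(z : G), ?_, fun h => hzn ?_⟩)
      · simp only [hE, mem_filter, mem_univ, true_and]
        refine ⟨z.2, fun h => hq.one_lt.ne' ?_⟩
        rw [← hz, ← Subgroup.orderOf_coe, h, orderOf_one]
      · rw [← hz, ← Subgroup.orderOf_coe]
        exact orderOf_dvd_of_pow_eq_one h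
    have hcardS : Nat.card {x : X // x ^ n = 1} = S.card + 1 := by
      have h1 : (univ.filter fun x : G => x ∈ X ∧ x ^ n = 1) = insert 1 S := by
        ext x
        simp only [hS, hE, mem_filter, mem_univ, true_and, mem_insert]
        constructor
        · intro hx; exact or_iff_not_imp_left.2 fun h => ⟨⟨hx.1, h⟩, hx.2⟩
        · rintro (rfl | h); exacts [⟨X.one_mem, one_pow _⟩, ⟨h.1.1, h.2⟩]
      have h2 := congrArg Finset.card h1
      rw [card_insert_of_notMem (by simp [hS, hE]), ← Fintype.card_subtype,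
        ← Nat.card_eq_fintype_card] at h2
      rw [← h2]
      exact Nat.card_congr
        { toFun := fun x => ⟨x.1.1, x.1.2, by
            have := congrArg (fun y : X => (y : G)) x.2
            simpa using this⟩
          invFun := fun x => ⟨⟨x.1, x.2.1⟩, Subtype.ext (by simpa using x.2.2)⟩
          left_inv := fun _ => rfl
          right_inv := fun _ => rfl }
    refine le_gcd_of_dvd he ?_ (t := S.card) (by omega) hne (hcardS ▸ Solv.frobenius_dvd n hne)
    refine ⟨(S.filter fun x => x • B₀ = B₀).card, ?_⟩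
    have hvpos : 0 < Fintype.card Ω - 1 := by omega
    refine Nat.eq_of_mul_eq_mul_left hvpos ?_
    calc (Fintype.card Ω - 1) * (A * S.card) = ((Fintype.card Ω - 1) * A) * S.card := by ring
      _ = (E.card * (D.k - 1)) * S.card := by rw [hkE]
      _ = E.card * (S.card * (D.k - 1)) := by ring
      _ = E.card * ((Fintype.card Ω - 1) * (S.filter fun x => x • B₀ = B₀).card) := by rw [hkS]
      _ = _ := by rw [hEe]; ring
  obtain ⟨q, hq, hqe⟩ := Nat.exists_prime_and_dvd (show Nat.card X ≠ 1 by omega)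
  refine ⟨q, hq, IsPGroup.of_card (n := (Nat.card X).factorization q) ?_⟩
  set e := Nat.card X with hedef
  have hprod : q ^ e.factorization q * (e / q ^ e.factorization q) = e :=
    Nat.ordProj_mul_ordCompl_eq_self e q
  by_contra hne
  have hn1 : e / q ^ e.factorization q ≠ 1 := fun h => hne (by rw [h, mul_one] at hprod; exact hprod.symm)
  obtain ⟨r, hr, hrn⟩ := Nat.exists_prime_and_dvd hn1
  have hre : r ∣ e := hrn.trans (Nat.ordCompl_dvd e q)
  have hq' : ¬ q ∣ e / q ^ e.factorization q := Nat.not_dvd_ordCompl hq (by omega)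
  have hrq : q ≠ r := fun h => hq' (h ▸ hrn)
  have hprodr : r ^ e.factorization r * (e / r ^ e.factorization r) = e :=
    Nat.ordProj_mul_ordCompl_eq_self e r
  have h1 : q ^ e.factorization q ∣ e / r ^ e.factorization r := by
    have h : q ^ e.factorization q ∣ r ^ e.factorization r * (e / r ^ e.factorization r) := by
      rw [hprodr]; exact Nat.ordProj_dvd e q
    exact (((Nat.coprime_primes hq hr).2 hrq).pow _ _).dvd_of_dvd_mul_left h
  have h2 : e ∣ (e / r ^ e.factorization r) * (e / q ^ e.factorization q) := by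
    conv_lhs => rw [← hprod]
    exact mul_dvd_mul_right h1 _
  have hb1 := bound q hq hqe
  have hb2 := bound r hr hre
  have hpos : 0 < (e / r ^ e.factorization r) * (e / q ^ e.factorization q) :=
    Nat.mul_pos (Nat.ordCompl_pos r (by omega)) (Nat.ordCompl_pos q (by omega))
  have h3 := Nat.le_of_dvd hpos h2
  have h4 := gcd_sq_lt (a := A + 1) (e := e) (by omega) hdvd (by omega)
  rw [Nat.add_sub_cancel] at h4
  have := Nat.mul_le_mul hb2 hb1
  omega

/-- If some nontrivial element fixes the block pointwise, the block stabiliser has a nontrivial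
normal subgroup of prime power order fixing it pointwise. -/
theorem Pre.exists_pgroup [FaithfulSMul G Ω] (P : Pre H a) (hfix : ∀ r : Ω, ∃ h : H, h • r ≠ r)
    {w : G} (hw1 : w ≠ 1) (hw : ∀ c ∈ P.Δ, w • c = c) :
    ∃ (X : Subgroup G) (q : ℕ), q.Prime ∧ IsPGroup q X ∧ X ≠ ⊥ ∧ X ≤ H ∧
      (∀ g ∈ H, ∀ x ∈ X, g * x * g⁻¹ ∈ X) ∧ ∀ x ∈ X, ∀ c ∈ P.Δ, x • c = c := by
  classical
  set K : Subgroup G := fixingSubgroup G (P.Δ : Set Ω) with hK
  have memK : ∀ g, g ∈ K ↔ ∀ c ∈ P.Δ, g • c = c := fun g => by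
    rw [hK, mem_fixingSubgroup_iff]; simp
  have hKH : K ≤ H := fun g hg => P.hstab g <| by
    refine eq_of_subset_of_card_le (fun q hq => ?_) (by rw [card_smul_finset])
    obtain ⟨c, hc, rfl⟩ := mem_smul_finset.1 hq
    rwa [(memK g).1 hg c hc]
  have hKn : ∀ g ∈ H, ∀ x ∈ K, g * x * g⁻¹ ∈ K := fun g hg x hx => (memK _).2 fun c hc => by
    have hc' : g⁻¹ • c ∈ P.Δ := by
      rw [← P.hHΔ g⁻¹ (H.inv_mem hg)]; exact smul_mem_smul_finset hc
    rw [mul_smul, mul_smul, (memK x).1 hx _ hc', smul_inv_smul]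
  have hout : ∀ g ∈ H, ∀ p, p ∉ P.Δ → g • p ∉ P.Δ := fun g hg p hp h => hp (by
    rwa [← P.hHΔ g hg, smul_mem_smul_finset_iff] at h)
  by_cases hsemi : ∀ x ∈ K, ∀ p, p ∉ P.Δ → x • p = p → x = 1
  · have hne : K ≠ ⊥ := fun h => hw1 (by simpa [h] using (memK w).2 hw)
    obtain ⟨q, hq, hKq⟩ := P.isPGroup K hne hKn (fun x hx => (memK x).1 hx) hsemi
    exact ⟨K, q, hq, hKq, hne, hKH, hKn, fun x hx => (memK x).1 hx⟩
  push_neg at hsemi
  obtain ⟨x₀, hx₀, p₀, hp₀, hx₀p, hx₀1⟩ := hsemi
  have uniq : ∀ x ∈ K, x ≠ 1 → ∀ p q, p ∉ P.Δ → q ∉ P.Δ → x • p = p → x • q = q → p = q := by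
    intro x hx hx1 p q hp hq h h'
    by_contra hne
    exact hx1 (eq_of_smul_eq_smul (α := Ω) fun r => by
      rw [one_smul, P.D.axial_two_fixed P.hΔ x (P.inv x) ((memK x).1 hx) hne h h' hp hq r])
  -- the stabiliser of a fixed point is a Frobenius complement
  let C : Ω → Subgroup K := fun p => MulAction.stabilizer K p
  have hC : ∀ p, p ∉ P.Δ → C p ≠ ⊥ → IsFrobeniusComplement (C p) := by
    intro p hp hne
    refine ⟨hne, ?_, fun g hg => ?_⟩
    · intro htop
      obtain ⟨h, hh⟩ := hfix p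
      obtain ⟨⟨⟨x, hx⟩, hxC⟩, hx1⟩ := Subgroup.ne_bot_iff_exists_ne_one.1 hne
      have hx1' : x ≠ 1 := fun e => hx1 (Subtype.ext (Subtype.ext e))
      refine hh (uniq x hx hx1' _ p (hout _ h.2 p hp) hp ?_ hxC)
      have hconj : (h : G)⁻¹ * x * (h : G) ∈ K := by
        simpa using hKn (h : G)⁻¹ (H.inv_mem h.2) x hx
      have h' : (⟨_, hconj⟩ : K) ∈ C p := htop ▸ Subgroup.mem_top _
      have h'' : ((h : G)⁻¹ * x * (h : G)) • p = p := h'
      rw [mul_smul, mul_smul, inv_smul_eq_iff] at h''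
      exact h''
    · rw [Subgroup.eq_bot_iff_forall]
      rintro z ⟨hz1, hz2⟩
      by_contra hz
      have hz2' : g⁻¹ * z * g ∈ C p := Solv.mem_conj_smul.1 hz2
      refine hg (?_ : g • p = p)
      refine uniq z z.2 (fun e => hz (Subtype.ext e)) ((g : G) • p) p (hout _ (hKH g.2) p hp) hp ?_ hz1
      have h2 : ((g : G)⁻¹ * (z : G) * (g : G)) • p = p := hz2'
      rw [mul_smul, mul_smul, inv_smul_eq_iff] at h2
      exact h2
  have hF₀ := hC p₀ hp₀ ((Subgroup.ne_bot_iff_exists_ne_one).2 ⟨⟨⟨x₀, hx₀⟩, hx₀p⟩, fun e =>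
    hx₀1 (congrArg (fun z : C p₀ => ((z : K) : G)) e)⟩)
  obtain ⟨N, hNset, -, hNcompl⟩ := Solv.frobenius_theorem hF₀
  have half : ∀ {L : Subgroup K}, IsFrobeniusComplement L →
      2 * Nat.card (Cfsg.frobeniusKernel L) ≤ Nat.card K := by
    intro L hL
    rw [Solv.frob_kernel_card hL]
    haveI : Nontrivial L := (Subgroup.nontrivial_iff_ne_bot _).2 hL.1
    have h := L.index_mul_card
    have h2 : 2 ≤ Nat.card L := Finite.one_lt_card
    calc 2 * L.index = L.index * 2 := mul_comm _ _
      _ ≤ L.index * Nat.card L := Nat.mul_le_mul_left _ h2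
      _ = _ := h
  have hchar : ∀ x : K, x ∈ N ↔ x = 1 ∨ ∀ p, p ∉ P.Δ → (x : G) • p ≠ p := by
    intro x
    rw [← SetLike.mem_coe, hNset]
    constructor
    · intro hx
      by_cases hx1 : x = 1
      · exact Or.inl hx1
      refine Or.inr fun p hp hxp => ?_
      have hxker := hx.resolve_left hx1
      have hp' : ∀ g : K, (g : G) • p₀ ≠ p := fun g hgp => hxker g (Solv.mem_conj_smul.2 (by
        show ((g : G)⁻¹ * (x : G) * (g : G)) • p₀ = p₀
        rw [mul_smul, mul_smul, hgp, hxp, inv_smul_eq_iff, hgp]))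
      have hFp := hC p hp ((Subgroup.ne_bot_iff_exists_ne_one).2 ⟨⟨x, hxp⟩, fun e =>
        hx1 (congrArg Subtype.val e)⟩)
      -- every element lies in one of the two kernels, the identity in both
      have hcover : (Cfsg.frobeniusKernel (C p₀)) ∪ (Cfsg.frobeniusKernel (C p)) = Set.univ := by
        refine Set.eq_univ_iff_forall.2 fun y => ?_
        by_contra hy
        simp only [Cfsg.frobeniusKernel, Set.mem_union, Set.mem_setOf_eq, not_or, not_forall,
          not_not] at hy
        obtain ⟨⟨hy1, g₁, h₁⟩, -, g₂, h₂⟩ := hy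
        have h₁' : ((g₁ : G)⁻¹ * (y : G) * (g₁ : G)) • p₀ = p₀ := Solv.mem_conj_smul.1 h₁
        have h₂' : ((g₂ : G)⁻¹ * (y : G) * (g₂ : G)) • p = p := Solv.mem_conj_smul.1 h₂
        rw [mul_smul, mul_smul, inv_smul_eq_iff] at h₁' h₂'
        have := uniq y y.2 (fun e => hy1 (Subtype.ext e)) _ _ (hout _ (hKH g₁.2) p₀ hp₀)
          (hout _ (hKH g₂.2) p hp) h₁' h₂'
        apply hp' (g₂⁻¹ * g₁)
        rw [Subgroup.coe_mul, Subgroup.coe_inv, mul_smul, this, inv_smul_smul]
      have h := Set.ncard_union_add_ncard_inter (Cfsg.frobeniusKernel (C p₀))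
        (Cfsg.frobeniusKernel (C p))
      rw [hcover, Set.ncard_univ] at h
      have h1 : 0 < ((Cfsg.frobeniusKernel (C p₀)) ∩ (Cfsg.frobeniusKernel (C p))).ncard :=
        (Set.ncard_pos (Set.toFinite _)).2 ⟨1, Or.inl rfl, Or.inl rfl⟩
      have h2 := half hF₀
      have h3 := half hFp
      rw [Nat.card_coe_set_eq] at h2 h3
      omega
    · rintro (rfl | hx)
      · exact Or.inl rfl
      · refine Or.inr fun g hg => hx ((g : G) • p₀) (hout _ (hKH g.2) p₀ hp₀) ?_
        have h : ((g : G)⁻¹ * (x : G) * (g : G)) • p₀ = p₀ := Solv.mem_conj_smul.1 hg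
        rw [mul_smul, mul_smul, inv_smul_eq_iff] at h
        exact h
  set X : Subgroup G := N.map K.subtype with hX
  have hXK : X ≤ K := Subgroup.map_subtype_le N
  have hXne : X ≠ ⊥ := by
    intro h
    have hbot := (Subgroup.map_eq_bot_iff_of_injective _ K.subtype_injective).1 h
    rw [hbot] at hNcompl
    exact hF₀.2.1 (by rwa [Subgroup.isComplement'_bot_left] at hNcompl)
  have hXn : ∀ g ∈ H, ∀ x ∈ X, g * x * g⁻¹ ∈ X := by
    rintro g hg _ ⟨x, hx, rfl⟩
    refine ⟨⟨g * x.1 * g⁻¹, hKn g hg _ x.2⟩, (hchar _).2 ?_, rfl⟩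
    rcases (hchar x).1 hx with rfl | h
    · left; exact Subtype.ext (by simp)
    · right
      intro p hp he
      apply h (g⁻¹ • p) (hout _ (H.inv_mem hg) p hp)
      rw [mul_smul, mul_smul, smul_eq_iff_eq_inv_smul] at he
      exact he
  have hXax : ∀ x ∈ X, ∀ c ∈ P.Δ, x • c = c := fun x hx => (memK x).1 (hXK hx)
  have hXs : ∀ x ∈ X, ∀ p, p ∉ P.Δ → x • p = p → x = 1 := by
    rintro _ ⟨x, hx, rfl⟩ p hp he
    rcases (hchar x).1 hx with rfl | h
    · rfl
    · exact absurd he (h p hp)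
  obtain ⟨q, hq, hXq⟩ := P.isPGroup X hXne hXn hXax hXs
  exact ⟨X, q, hq, hXq, hXne, hXK.trans hKH, hXn, hXax⟩

end Cfsg.Agent.Perm.AxialDesign
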